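import Cfsg.Agent.Lib.KnownB.Phan.Step
import Cfsg.Agent.Lib.KnownB.Phan.Chain

/-!
# A chain of homomorphisms on windows of four coordinates extends to the unitary group
-/

set_option autoImplicit false
set_option linter.unusedSectionVars false

open Matrix CfsgLib.Classical CfsgLib.SUPres

namespace CfsgLib.Phan

variable {F : Type*} [Field F] [Fintype F] {n q : ℕ} {σ : F →+* F}
variable (hσ : ∀ x, σ x = x ^ q) (hc : IsConjugation σ)
include hσ hc

/-- Adjacent pairs generate when `q` is at least three. -/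
theorem gen_pairs (hF : Fintype.card F = q ^ 2) (hq : 2 < q) (hn : 4 ≤ n) {H : Subgroup (Cfsg.SU n F q)} :
    ∀ k, k ≤ n → (∀ w, w + 2 ≤ k → fixS F q (win n w (w + 2)) ≤ H) → fixS F q (below n k) ≤ H := by
  classical
  intro k
  induction k with
  | zero =>
    intro _ _ g hg
    rw [fixS_small hσ (by simp [below]) hg]
    exact one_mem H
  | succ m ih =>
    intro hk hp
    rcases (show m = 0 ∨ m = 1 ∨ m = 2 ∨ 3 ≤ m by omega) with rfl | rfl | rfl | hm
    · intro g hg
      rw [fixS_small hσ (below_card 1) hg]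
      exact one_mem H
    · rw [← win_zero]
      exact hp 0 le_rfl
    · let a : Fin n := ⟨0, by omega⟩
      let b : Fin n := ⟨1, by omega⟩
      let c : Fin n := ⟨2, by omega⟩
      have e : below n 3 = {a, b, c} := by
        ext x; simp [mem_below, a, b, c, Fin.ext_iff]; omega
      have h1 : fixS F q ({a, b} : Finset (Fin n)) ≤ H := le_trans (le_of_eq (congrArg _ (by
        ext x; simp [mem_win, a, b, Fin.ext_iff]; omega))) (hp 0 (by omega))
      have h2 : fixS F q ({b, c} : Finset (Fin n)) ≤ H := le_trans (le_of_eq (congrArg _ (by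
        ext x; simp [mem_win, b, c, Fin.ext_iff]; omega))) (hp 1 le_rfl)
      rw [show 2 + 1 = 3 from rfl, e]
      exact genThree hσ hc hF (by omega) hn (by simp [a, b]) (by simp [a, c]) (by simp [b, c]) h1
        (pair_trans hσ hc (by simp [b, c]) (by simp [a, b]) (by simp [a, c]) h1 h2) h2
    · let d : Fin n := ⟨m, by omega⟩
      let j : Fin n := ⟨m - 1, by omega⟩
      have hjd : j ≠ d := by simp [j, d, Fin.ext_iff]; omega
      obtain ⟨s, hs, ej, ed⟩ := exists_exchange hσ hc hjd
      have e : below n (m + 1) = insert d (below n m) := by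
        ext x; simp [mem_below, d, Fin.ext_iff]; omega
      rw [e]
      refine fixS_insert_le hσ hc (d := d) (i := ⟨0, by omega⟩) (j := j) (l := ⟨1, by omega⟩) (by simp [mem_below, d])
        (by simp [mem_below]; omega) (by simp [mem_below, j]; omega) (by simp [mem_below]; omega)
        (by simp [j, Fin.ext_iff]; omega) (by simp [Fin.ext_iff]) (by simp [j, Fin.ext_iff]; omega)
        (ih (by omega) fun w hw => hp w (by omega)) hs (hp (m - 1) (by omega) (fixS_mono ?_ hs)) ej ed
      intro x hx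
      simp [j, d, Fin.ext_iff] at hx
      rw [mem_win]; omega

/-- Homomorphisms on windows of four, agreeing on overlaps, whose distant parts commute, extend. -/
theorem chain4 (hn : 4 ≤ n) {G : Type*} [Group G]
    (θ : ∀ w, w + 4 ≤ n → fixS F q (win n w (w + 4)) →* G)
    (hagree : ∀ w (h : w + 5 ≤ n) (x : Cfsg.SU n F q) (h1 : x ∈ fixS F q (win n w (w + 4)))
      (h2 : x ∈ fixS F q (win n (w + 1) (w + 1 + 4))), x ∈ fixS F q (win n (w + 1) (w + 4)) →
        θ w (by omega) ⟨x, h1⟩ = θ (w + 1) (by omega) ⟨x, h2⟩)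
    (hcomm : ∀ k, 4 ≤ k → ∀ (hk : k + 1 ≤ n) (Φ : fixS F q (below n k) →* G),
      (∀ w (h : w + 4 ≤ k) (x : fixS F q (win n w (w + 4))),
        Φ ⟨x.1, fixS_mono (win_below h) x.2⟩ = θ w (h.trans (by omega)) x) →
      ∀ (x : fixS F q (below n k)) (y : fixS F q (win n (k - 3) (k - 3 + 4))),
        ((x.1 ∈ fixS F q (below n (k - 1)) ∧ y.1 ∈ fixS F q (win n (k - 1) (k + 1))) ∨
          (x.1 ∈ fixS F q (below n (k - 2)) ∧ y.1 ∈ fixS F q (win n (k - 2) (k + 1)))) →
        Commute (Φ x) (θ (k - 3) (by omega) y)) :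
    ∃ Φ : Cfsg.SU n F q →* G, ∀ w (h : w + 4 ≤ n) (x : fixS F q (win n w (w + 4))), Φ x.1 = θ w h x := by
  classical
  have main : ∀ k, 4 ≤ k → ∀ hk : k ≤ n, ∃ Φ : fixS F q (below n k) →* G,
      ∀ w (h : w + 4 ≤ k) (x : fixS F q (win n w (w + 4))),
        Φ ⟨x.1, fixS_mono (win_below h) x.2⟩ = θ w (h.trans hk) x := by
    intro k hk4
    induction k, hk4 using Nat.le_induction with
    | base =>
      intro hk
      refine ⟨(θ 0 (by omega)).comp (Subgroup.inclusion (le_of_eq (by rw [← win_zero]))), fun w h x => ?_⟩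
      obtain rfl : w = 0 := by omega
      rfl
    | succ k hk4 ih =>
      intro hk
      obtain ⟨Φ, hΦ⟩ := ih (by omega)
      let L : Finset (Fin n) := below n (k - 2)
      let l : Fin n := ⟨k - 3, by omega⟩
      let i : Fin n := ⟨k - 2, by omega⟩
      let j : Fin n := ⟨k - 1, by omega⟩
      let t : Fin n := ⟨k, by omega⟩
      have e3 : insert j (insert i L) = below n k := by
        ext x; simp [L, i, j, mem_below, Fin.ext_iff]; omega
      have eW : ({l, i, j, t} : Finset (Fin n)) = win n (k - 3) (k - 3 + 4) := by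
        ext x; simp [l, i, j, t, mem_win, Fin.ext_iff]; omega
      have eC : ({l, i, j} : Finset (Fin n)) = win n (k - 3) k := by
        ext x; simp [l, i, j, mem_win, Fin.ext_iff]; omega
      let D : Win4 F n q G :=
        { L := L, l := l, l' := ⟨k - 4, by omega⟩, i := i, j := j, t := t
          hl := by simp [L, l, mem_below]; omega
          hl' := by simp [L, mem_below]; omega
          hll := by simp [l, Fin.ext_iff]; omega
          hiL := by simp [L, i, mem_below]
          hjL := by simp [L, j, mem_below]; omega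
          htL := by simp [L, t, mem_below]
          hij := by simp [i, j, Fin.ext_iff]; omega
          hit := by simp [i, t, Fin.ext_iff]; omega
          hjt := by simp [j, t, Fin.ext_iff]; omega
          α := Φ.comp (Subgroup.inclusion (le_of_eq (congrArg _ e3)))
          γ := (θ (k - 3) (by omega)).comp (Subgroup.inclusion (le_of_eq (congrArg _ eW)))
          agree := fun x h1 h2 hx => by
            have hx' : x ∈ fixS F q (win n (k - 3) k) := eC ▸ hx
            obtain ⟨w, rfl⟩ : ∃ w, k = w + 4 := ⟨k - 4, by omega⟩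
            have hw : x ∈ fixS F q (win n w (w + 4)) := fixS_mono (win_mono (by omega) le_rfl) hx'
            show Φ ⟨x, _⟩ = θ (w + 1) _ ⟨x, _⟩
            rw [← hagree w (by omega) x hw _ hx']
            exact hΦ w le_rfl ⟨x, hw⟩
          comm := fun x y hx hy => hcomm k hk4 (by omega) Φ hΦ ⟨x.1, e3 ▸ x.2⟩ ⟨y.1, eW ▸ y.2⟩ (Or.inl
            ⟨fixS_mono (by intro m; simp [L, i, mem_below, Fin.ext_iff]; omega) hx,
              fixS_mono (by intro m; simp [j, t, mem_win, Fin.ext_iff]; omega) hy⟩)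
          comm2 := fun x y hx hy => hcomm k hk4 (by omega) Φ hΦ ⟨x.1, e3 ▸ x.2⟩ ⟨y.1, eW ▸ y.2⟩ (Or.inr
            ⟨fixS_mono (by intro m; simp [L, mem_below]) hx,
              fixS_mono (by intro m; simp [i, j, t, mem_win, Fin.ext_iff]; omega) hy⟩) }
      obtain ⟨Ψ, hΨA, hΨB⟩ := D.exists_extension hσ hc
      have e4 : below n (k + 1) = insert t (insert j (insert i L)) := by
        rw [e3]; ext x; simp [t, mem_below, Fin.ext_iff]; omega
      refine ⟨Ψ.comp (Subgroup.inclusion (le_of_eq (congrArg _ e4))), fun w h x => ?_⟩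
      rcases (show w + 4 ≤ k ∨ w = k - 3 by omega) with hw | rfl
      · refine ((hΨA x.1 (fixS_mono (subset_of_eq e3.symm) (fixS_mono (win_below hw) x.2))).trans ?_)
        exact hΦ w hw x
      · exact hΨB x.1 (fixS_mono (subset_of_eq eW.symm) x.2)
  obtain ⟨Φ, hΦ⟩ := main n hn le_rfl
  let incl : Cfsg.SU n F q →* fixS F q (below n n) :=
    MonoidHom.mk' (fun g => ⟨g, fun i hi => absurd (mem_below.2 i.2) hi⟩) fun a b => rfl
  exact ⟨Φ.comp incl, fun w h x => hΦ w h x⟩

/-- With generation by adjacent pairs, commuting of the images of distant pairs suffices. -/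
theorem chain4_pairs (hF : Fintype.card F = q ^ 2) (hq : 2 < q) (hn : 4 ≤ n) {G : Type*} [Group G]
    (θ : ∀ w, w + 4 ≤ n → fixS F q (win n w (w + 4)) →* G) (U : ℕ → Subgroup G)
    (hagree : ∀ w (h : w + 5 ≤ n) (x : Cfsg.SU n F q) (h1 : x ∈ fixS F q (win n w (w + 4)))
      (h2 : x ∈ fixS F q (win n (w + 1) (w + 1 + 4))), x ∈ fixS F q (win n (w + 1) (w + 4)) →
        θ w (by omega) ⟨x, h1⟩ = θ (w + 1) (by omega) ⟨x, h2⟩)
    (hpair : ∀ w (h : w + 4 ≤ n) s, w ≤ s → s ≤ w + 2 → ∀ (x : fixS F q (win n w (w + 4))),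
      x.1 ∈ fixS F q (win n s (s + 2)) → θ w h x ∈ U s)
    (hU : ∀ a b, a + 2 ≤ b → b + 2 ≤ n → ∀ x ∈ U a, ∀ y ∈ U b, x * y = y * x) :
    ∃ Φ : Cfsg.SU n F q →* G, ∀ w (h : w + 4 ≤ n) (x : fixS F q (win n w (w + 4))), Φ x.1 = θ w h x := by
  classical
  refine chain4 hσ hc hn θ hagree fun k hk4 hk Φ hΦ x y hxy => ?_
  -- adjacent pairs below `k` land in their subgroups
  have hlow : ∀ s, s + 2 ≤ k → ∀ g (hg : g ∈ fixS F q (below n k)), g ∈ fixS F q (win n s (s + 2)) → Φ ⟨g, hg⟩ ∈ U s := by
    intro s hs g hg hgs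
    have hg4 : g ∈ fixS F q (win n (min s (k - 4)) (min s (k - 4) + 4)) :=
      fixS_mono (win_mono (by omega) (by omega)) hgs
    rw [show (⟨g, hg⟩ : fixS F q (below n k)) = ⟨g, fixS_mono (win_below (by omega)) hg4⟩ from rfl,
      hΦ (min s (k - 4)) (by omega) ⟨g, hg4⟩]
    exact hpair _ _ s (by omega) (by omega) _ hgs
  -- pairs commuting with the image of `y` give all of the first coordinates
  have key : ∀ m, m ≤ k → (∀ s, s + 2 ≤ m → ∀ z ∈ U s, z * θ (k - 3) (by omega) y = θ (k - 3) (by omega) y * z) →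
      x.1 ∈ fixS F q (below n m) → Commute (Φ x) (θ (k - 3) (by omega) y) := by
    intro m hm hs hx
    let H : Subgroup (Cfsg.SU n F q) :=
      ((Subgroup.centralizer {θ (k - 3) (by omega) y}).comap Φ).map (fixS F q (below n k)).subtype
    have hH : fixS F q (below n m) ≤ H := gen_pairs hσ hc hF hq hn m (by omega) fun s hsm g hg => by
      have hgk : g ∈ fixS F q (below n k) := fixS_mono (win_below (by omega)) hg
      exact ⟨⟨g, hgk⟩, Subgroup.mem_centralizer_singleton_iff.2 (hs s hsm _ (hlow s (by omega) g hgk hg)), rfl⟩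
    obtain ⟨z, hz, ez⟩ := hH hx
    obtain rfl : z = x := Subtype.ext ez
    exact Subgroup.mem_centralizer_singleton_iff.1 hz
  rcases hxy with ⟨hx, hy⟩ | ⟨hx, hy⟩
  · refine key (k - 1) (by omega) (fun s hs z hz => hU s (k - 1) (by omega) (by omega) z hz _ ?_) hx
    exact hpair _ _ _ (by omega) (by omega) y (fixS_mono (win_mono le_rfl (by omega)) hy)
  · refine key (k - 2) (by omega) (fun s hs z hz => ?_) hx
    -- the last three coordinates are generated by their two adjacent pairs
    let a : Fin n := ⟨k - 2, by omega⟩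
    let b : Fin n := ⟨k - 1, by omega⟩
    let c : Fin n := ⟨k, by omega⟩
    let T : Subgroup (Cfsg.SU n F q) :=
      ((Subgroup.centralizer {z}).comap (θ (k - 3) (by omega))).map (fixS F q (win n (k - 3) (k - 3 + 4))).subtype
    have hT : ∀ r, k - 2 ≤ r → r ≤ k - 1 → ∀ S : Finset (Fin n), S ⊆ win n r (r + 2) → fixS F q S ≤ T := by
      intro r hr1 hr2 S hS g hg
      have hgr : g ∈ fixS F q (win n r (r + 2)) := fixS_mono hS hg
      have hg4 : g ∈ fixS F q (win n (k - 3) (k - 3 + 4)) := fixS_mono (win_mono (by omega) (by omega)) hgr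
      refine ⟨⟨g, hg4⟩, Subgroup.mem_centralizer_singleton_iff.2 ?_, rfl⟩
      exact (hU s r (by omega) (by omega) z hz _ (hpair _ _ r (by omega) (by omega) ⟨g, hg4⟩ hgr)).symm
    have h1 : fixS F q ({a, b} : Finset (Fin n)) ≤ T :=
      hT (k - 2) le_rfl (by omega) _ (by intro m; simp [a, b, mem_win, Fin.ext_iff]; omega)
    have h2 : fixS F q ({b, c} : Finset (Fin n)) ≤ T :=
      hT (k - 1) (by omega) le_rfl _ (by intro m; simp [b, c, mem_win, Fin.ext_iff]; omega)
    have hgen : fixS F q ({a, b, c} : Finset (Fin n)) ≤ T :=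
      genThree hσ hc hF (by omega) hn (by simp [a, b, Fin.ext_iff]; omega) (by simp [a, c, Fin.ext_iff]; omega)
        (by simp [b, c, Fin.ext_iff]; omega) h1
        (pair_trans hσ hc (by simp [b, c, Fin.ext_iff]; omega) (by simp [a, b, Fin.ext_iff]; omega)
          (by simp [a, c, Fin.ext_iff]; omega) h1 h2) h2
    obtain ⟨w, hw, ew⟩ := hgen (fixS_mono (fun m => by simp [a, b, c, mem_win, Fin.ext_iff]; omega) hy)
    obtain rfl : w = y := Subtype.ext ew
    exact (Subgroup.mem_centralizer_singleton_iff.1 hw).symm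

end CfsgLib.Phan
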