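import Cfsg.Agent.Lib.KnownB.Phan.Pair
import Cfsg.Agent.Lib.KnownB.Phan.Field
import Cfsg.Agent.S0281

/-!
# Subgroups of the three-dimensional unitary group isomorphic to the two-dimensional one
-/

set_option autoImplicit false
set_option linter.unusedSectionVars false

open Matrix CfsgLib.Classical CfsgLib.SUPres

namespace CfsgLib.Phan

variable {F : Type*} [Field F] [Fintype F] {q : ℕ} {σ : F →+* F}

theorem two_zero_iff_even (L : Type*) [Field L] [Fintype L] : (2 : L) = 0 ↔ Even (Fintype.card L) := by
  rw [Nat.even_iff, ← FiniteField.even_card_iff_char_two]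
  constructor
  · intro h
    haveI : CharP L 2 := CharTwo.of_one_ne_zero_of_two_eq_zero one_ne_zero h
    exact ringChar.eq L 2
  · intro h
    haveI : CharP L 2 := ringChar.of_eq h
    exact CharTwo.two_eq_zero

/-- The stabiliser of a vector. -/
def stabV (F : Type*) [Field F] (q : ℕ) {n : ℕ} (w : Fin n → F) : Subgroup (Cfsg.SU n F q) where
  carrier := {g | act g w = w}
  one_mem' := act_one w
  mul_mem' {a b} ha hb := by
    show act (a * b) w = w
    rw [act_mul, show act b w = w from hb, show act a w = w from ha]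
  inv_mem' {a} ha := act_inv_of ha

variable (hσ : ∀ x, σ x = x ^ q) (hc : IsConjugation σ)

theorem stab_ev_two : stabV F q (ev 2 : Fin 3 → F) = fixS F q ({0, 1} : Finset (Fin 3)) := by
  ext g
  refine ⟨fun h k hk => ?_, fun h => h 2 (by simp)⟩
  obtain rfl : k = 2 := by revert hk; fin_cases k <;> simp
  exact h

theorem stab_ev_zero : stabV F q (ev 0 : Fin 3 → F) = fixS F q ({1, 2} : Finset (Fin 3)) := by
  ext g
  refine ⟨fun h k hk => ?_, fun h => h 0 (by simp)⟩
  obtain rfl : k = 0 := by revert hk; fin_cases k <;> simp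
  exact h

theorem stab_smul {n : ℕ} {c : F} (hc0 : c ≠ 0) (w : Fin n → F) : stabV F q (c • w) = stabV F q w := by
  ext g
  show act g (c • w) = c • w ↔ act g w = w
  rw [act_smul]
  exact (smul_right_injective _ hc0).eq_iff

theorem mem_stab_conj {n : ℕ} {w : Fin n → F} {h g : Cfsg.SU n F q} :
    g ∈ stabV F q (act h w) ↔ h⁻¹ * g * h ∈ stabV F q w := by
  show act g (act h w) = act h w ↔ act (h⁻¹ * g * h) w = w
  rw [act_mul, act_mul]
  exact ⟨fun e => by rw [e, ← act_mul, inv_mul_cancel, act_one],
    fun e => by have := congrArg (act h) e; rwa [← act_mul h h⁻¹, mul_inv_cancel, act_one] at this⟩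

include hσ hc

/-- In three dimensions two orthogonal isotropic vectors are dependent. -/
theorem iso_line {p y : Fin 3 → F} (hp : p ≠ 0) (hpp : stdHerm σ 3 p p = 0) (hpy : stdHerm σ 3 p y = 0)
    (hyy : stdHerm σ 3 y y = 0) : ∃ k : F, y = k • p := by
  have case1 : ∀ v z : Fin 3 → F, v ≠ 0 → v 2 = 0 → stdHerm σ 3 v v = 0 → stdHerm σ 3 v z = 0 →
      stdHerm σ 3 z z = 0 → ∃ k : F, z = k • v := by
    intro v z hv0 hv2 hvv hvz hzz
    simp [stdHerm_apply, Fin.sum_univ_three, hv2] at hvv hvz hzz
    have hv00 : v 0 ≠ 0 := fun e => hv0 (by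
      rw [e, mul_zero, zero_add, mul_eq_zero, map_eq_zero, or_self] at hvv
      funext i; fin_cases i
      exacts [e, hvv, hv2])
    have hv11 : v 1 ≠ 0 := fun e => hv00 (by
      rw [e, mul_zero, add_zero, mul_eq_zero, map_eq_zero, or_self] at hvv
      exact hvv)
    set k := z 0 / v 0 with hk
    have e0 : z 0 = k * v 0 := (div_mul_cancel₀ _ hv00).symm
    have e1 : z 1 = k * v 1 := by
      refine mul_left_cancel₀ ((map_ne_zero σ).2 hv11) ?_
      rw [e0] at hvz
      linear_combination hvz - k * hvv
    refine ⟨k, ?_⟩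
    have e2 : z 2 = 0 := by
      rw [e0, e1, map_mul, map_mul] at hzz
      have : σ (z 2) * z 2 = 0 := by linear_combination hzz - σ k * k * hvv
      rcases mul_eq_zero.1 this with h | h
      · exact (map_eq_zero σ).1 h
      · exact h
    funext i
    fin_cases i
    · exact e0
    · exact e1
    · simp [e2, hv2]
  by_cases hp2 : p 2 = 0
  · exact case1 p y hp hp2 hpp hpy hyy
  set m := y 2 / p 2 with hm
  let v : Fin 3 → F := y - m • p
  by_cases hv : v = 0
  · exact ⟨m, sub_eq_zero.1 hv⟩
  have hyp : stdHerm σ 3 y p = 0 := by rw [← (stdHerm_isHermitian hc 3).symm, hpy, map_zero]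
  have hv2 : v 2 = 0 := by simp [v, hm, hp2]
  obtain ⟨k, e⟩ := case1 v p hv hv2
    (by simp [v, hpp, hpy, hyp, hyy]) (by simp [v, hpp, hyp]) hpp
  exact absurd (by rw [congrFun e 2, Pi.smul_apply, hv2, smul_zero]) hp2

omit hc in
theorem perfect_fix [Finite F] {K : Type*} [Field K] [Fintype K] (hK : 3 < Fintype.card K)
    (φ : SpecialLinearGroup (Fin 2) K →* Cfsg.SU 3 F q) {w : Fin 3 → F} (hw : w ≠ 0)
    (h : ∀ x, ∃ c : F, act (φ x) w = c • w) (x : SpecialLinearGroup (Fin 2) K) : act (φ x) w = w := by
  classical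
  obtain ⟨a, ha, hasq⟩ : ∃ a : K, a ≠ 0 ∧ a ^ 2 ≠ 1 := by
    obtain ⟨x, -, hx⟩ := Finset.exists_mem_notMem_of_card_lt_card
      (show ({0, 1, -1} : Finset K).card < (Finset.univ : Finset K).card from
        lt_of_le_of_lt Finset.card_le_three (by rw [Finset.card_univ]; omega))
    simp only [Finset.mem_insert, Finset.mem_singleton, not_or] at hx
    refine ⟨x, hx.1, fun h => ?_⟩
    rcases mul_eq_zero.1 (show (x - 1) * (x + 1) = 0 by linear_combination h) with h' | h'
    · exact hx.2.1 (sub_eq_zero.1 h')
    · exact hx.2.2 (eq_neg_of_add_eq_zero_left h')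
  choose c hc' using h
  have cmul : ∀ x y, c (x * y) = c x * c y := fun x y => smul_left_injective F hw (by
    show c (x * y) • w = (c x * c y) • w
    rw [← hc', map_mul, act_mul, hc', act_smul, hc', smul_smul, mul_comm])
  have c1 : c 1 = 1 := smul_left_injective F hw (by
    show c 1 • w = (1 : F) • w
    rw [← hc', map_one, act_one, one_smul])
  let χ : SpecialLinearGroup (Fin 2) K →* F := { toFun := c, map_one' := c1, map_mul' := cmul }
  have hH : χ.ker = ⊤ := sl_subgroup_eq_top _ fun i j hij t => by
    obtain ⟨g, g', e⟩ := transvection_mem_commutatorSet_two ha hasq hij t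
    rw [← e]
    show c (g * g' * g⁻¹ * g'⁻¹) = 1
    rw [cmul, cmul, cmul]
    have e1 : c g * c g⁻¹ = 1 := by rw [← cmul, mul_inv_cancel, c1]
    have e2 : c g' * c g'⁻¹ = 1 := by rw [← cmul, mul_inv_cancel, c1]
    linear_combination (c g' * c g'⁻¹) * e1 + e2
  have hx : c x = 1 := (hH ▸ Subgroup.mem_top x : x ∈ χ.ker)
  rw [hc' x, hx, one_smul]

/-- The image of an embedded special linear group fixes a non-isotropic vector. -/
theorem exists_fixed {K : Type*} [Field K] [Fintype K] (hK : 3 < Fintype.card K)
    (φ : SpecialLinearGroup (Fin 2) K →* Cfsg.SU 3 F q) (hφ : Function.Injective φ) (hKF : (2 : K) = 0 ↔ (2 : F) = 0) :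
    ∃ w : Fin 3 → F, stdHerm σ 3 w w ≠ 0 ∧ ∀ x, act (φ x) w = w := by
  classical
  have hB := stdHerm_isHermitian hc 3
  by_cases h2 : (2 : F) = 0
  · have h2K : (2 : K) = 0 := hKF.2 h2
    let N : Cfsg.SU 3 F q → (Fin 3 → F) → Fin 3 → F := fun g x => act g x - x
    have Nadd : ∀ g x y, N g (x + y) = N g x + N g y := fun g x y => by simp only [N, act_add]; abel
    have Nsmul : ∀ g (c : F) x, N g (c • x) = c • N g x := fun g c x => by simp only [N, act_smul, smul_sub]
    have Nzero : ∀ g, N g 0 = 0 := fun g => by simp [N, act]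
    have hNN : ∀ g : Cfsg.SU 3 F q, g * g = 1 → ∀ x, N g (N g x) = 0 := fun g hg x => by
      simp only [N, act, Matrix.mulVec_sub]
      rw [show g.1.1 *ᵥ (g.1.1 *ᵥ x) = x by
        have := congrArg (fun k => act k x) hg
        rwa [act_mul, act_one] at this]
      funext i
      simp only [Pi.sub_apply, Pi.zero_apply]
      linear_combination (x i - (g.1.1 *ᵥ x) i) * h2
    have hform : ∀ g x y, stdHerm σ 3 (N g x) y + stdHerm σ 3 x (N g y) + stdHerm σ 3 (N g x) (N g y) = 0 := fun g x y => by
      have h := su_form hσ g x y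
      rw [show act g x = x + N g x by simp [N], show act g y = y + N g y by simp [N]] at h
      simp only [map_add, LinearMap.add_apply] at h
      linear_combination h
    have hiso : ∀ g, g * g = 1 → ∀ x y, stdHerm σ 3 (N g x) (N g y) = 0 := fun g hg x y => by
      have h := hform g x (N g y)
      rw [hNN g hg y] at h
      simpa using h
    have hline : ∀ g, g * g = 1 → ∀ x, N g x ≠ 0 → ∀ y, ∃ k : F, N g y = k • N g x := fun g hg x hx y =>
      iso_line hσ hc hx (hiso g hg x x) (hiso g hg x y) (hiso g hg y y)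
    have hne : ∀ g, g ≠ 1 → ∃ x, N g x ≠ 0 := fun g hg => by
      by_contra! h
      exact hg (su_ext fun i => by rw [act_one]; exact sub_eq_zero.1 (h (ev i)))
    have hcomm : ∀ g k, Commute g k → ∀ x, N g (N k x) = N k (N g x) := fun g k hgk x => by
      simp only [N, act, Matrix.mulVec_sub]
      rw [show g.1.1 *ᵥ (k.1.1 *ᵥ x) = k.1.1 *ᵥ (g.1.1 *ᵥ x) by
        have := congrArg (fun m => act m x) hgk.eq
        rwa [act_mul, act_mul] at this]
      abel
    -- commuting elements have the same centre
    have hsame : ∀ g k, g * g = 1 → k * k = 1 → Commute g k → ∀ x y, N g x ≠ 0 → ∃ c : F, N k y = c • N g x := by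
      intro g k hg hk hgk x y hx
      by_cases hy : N k y = 0
      · exact ⟨0, by rw [hy, zero_smul]⟩
      by_contra hind
      push Not at hind
      have hz : N g (N k y) = 0 := by
        obtain ⟨c1, e1⟩ := hline g hg x hx (N k y)
        obtain ⟨c2, e2⟩ := hline k hk y hy (N g y)
        rw [← hcomm g k hgk, e1] at e2
        by_cases hc1 : c1 = 0
        · rw [e1, hc1, zero_smul]
        by_cases hc2 : c2 = 0
        · rw [hc2, zero_smul, smul_eq_zero] at e2
          exact absurd (e2.resolve_left hc1) hx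
        exact absurd (by rw [div_eq_inv_mul, ← smul_smul, e2, smul_smul, inv_mul_cancel₀ hc2, one_smul]) (hind (c1 / c2))
      have h := hform g x (N k y)
      rw [hz] at h
      simp at h
      obtain ⟨c, e⟩ := iso_line hσ hc hx (hiso g hg x x) h (hiso k hk y y)
      exact hind c e
    let t : Fin 2 → Fin 2 → K → SpecialLinearGroup (Fin 2) K := fun i j c =>
      if h : i ≠ j then SpecialLinearGroup.transvection h c else 1
    have tmul : ∀ {i j : Fin 2} (h : i ≠ j) (a b : K), t i j a * t i j b = t i j (a + b) := fun h a b => by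
      simp only [t, dif_pos h]
      refine Subtype.ext ?_
      show Matrix.transvection _ _ a * Matrix.transvection _ _ b = Matrix.transvection _ _ (a + b)
      rw [Matrix.transvection_mul_transvection_same _ _ h]
    have tsq : ∀ {i j : Fin 2} (h : i ≠ j) (a : K), φ (t i j a) * φ (t i j a) = 1 := fun h a => by
      rw [← map_mul, tmul h, show a + a = 0 by linear_combination a * h2K]
      simp only [t, dif_pos h]
      rw [show SpecialLinearGroup.transvection h (0 : K) = 1 from Subtype.ext (by simp [SpecialLinearGroup.transvection]),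
        map_one]
    have tne : ∀ {i j : Fin 2} (h : i ≠ j) (a : K), a ≠ 0 → φ (t i j a) ≠ 1 := fun {i j} h a ha e => by
      rw [← map_one φ] at e
      have := congrFun (congrFun (congrArg Subtype.val (hφ e)) i) j
      simp only [t, dif_pos h] at this
      simp [SpecialLinearGroup.transvection, Matrix.transvection, Matrix.one_apply, h] at this
      exact ha this
    have tcm : ∀ {i j : Fin 2} (h : i ≠ j) (a b : K), Commute (φ (t i j a)) (φ (t i j b)) := fun h a b => by
      show φ _ * φ _ = φ _ * φ _
      rw [← map_mul, ← map_mul, tmul h, tmul h, add_comm]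
    obtain ⟨x0, hx0⟩ := hne _ (tne (show (0 : Fin 2) ≠ 1 by decide) 1 one_ne_zero)
    obtain ⟨y0, hy0⟩ := hne _ (tne (show (1 : Fin 2) ≠ 0 by decide) 1 one_ne_zero)
    set p := N (φ (t 0 1 1)) x0 with hp
    set p' := N (φ (t 1 0 1)) y0 with hp'
    have hupper : ∀ a y, ∃ c : F, N (φ (t 0 1 a)) y = c • p := fun a y =>
      hsame _ _ (tsq (by decide) 1) (tsq (by decide) a) (tcm (by decide) 1 a) x0 y hx0
    have hlower : ∀ a y, ∃ c : F, N (φ (t 1 0 a)) y = c • p' := fun a y =>
      hsame _ _ (tsq (by decide) 1) (tsq (by decide) a) (tcm (by decide) 1 a) y0 y hy0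
    have hli : LinearIndependent F ![p, p'] := by
      rw [linearIndependent_fin2]
      refine ⟨hy0, fun c e => ?_⟩
      simp only [Matrix.cons_val_zero, Matrix.cons_val_one] at e
      -- equal centres would make the two root groups commute
      have hz1 : ∀ x, N (φ (t 0 1 1)) (N (φ (t 1 0 1)) x) = 0 := fun x => by
        obtain ⟨d, ed⟩ := hlower 1 x
        rw [ed, Nsmul, show p' = c⁻¹ • p by
          rw [← e, smul_smul, inv_mul_cancel₀ (fun h => hx0 (by rw [← e, h, zero_smul])), one_smul],
          Nsmul, hp, hNN _ (tsq (by decide) 1), smul_zero, smul_zero]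
      have hz2 : ∀ x, N (φ (t 1 0 1)) (N (φ (t 0 1 1)) x) = 0 := fun x => by
        obtain ⟨d, ed⟩ := hupper 1 x
        rw [ed, Nsmul, ← e, Nsmul, hp', hNN _ (tsq (by decide) 1), smul_zero, smul_zero]
      have hcm : φ (t 0 1 1 * t 1 0 1) = φ (t 1 0 1 * t 0 1 1) := by
        rw [map_mul, map_mul]
        refine su_ext fun i => ?_
        rw [act_mul, act_mul]
        have key : ∀ g k x, act g (act k x) = x + N g x + N k x + N g (N k x) := fun g k x => by
          simp only [N, act, Matrix.mulVec_sub]
          abel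
        rw [key, key, hz1, hz2]
        abel
      have := congrFun (congrFun (congrArg Subtype.val (hφ hcm)) 0) 0
      simp only [t, dif_pos (show (0 : Fin 2) ≠ 1 by decide), dif_pos (show (1 : Fin 2) ≠ 0 by decide)] at this
      change (Matrix.transvection (0 : Fin 2) 1 (1 : K) * Matrix.transvection (1 : Fin 2) 0 (1 : K)) 0 0 =
        (Matrix.transvection (1 : Fin 2) 0 (1 : K) * Matrix.transvection (0 : Fin 2) 1 (1 : K)) 0 0 at this
      simp [Matrix.transvection, Matrix.mul_apply, Fin.sum_univ_two, Matrix.one_apply] at this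
    set w : Fin 3 → F := fun i => σ ((crossProduct p p') i) with hw
    have hcr := crossProduct_ne_zero_iff_linearIndependent.2 hli
    have hw0 : w ≠ 0 := fun e => hcr (funext fun i => (map_eq_zero σ).1 (congrFun e i))
    have hwp : ∀ v, stdHerm σ 3 w v = v ⬝ᵥ crossProduct p p' := fun v => by
      rw [stdHerm_apply]
      simp only [hw, hc.invol, dotProduct]
      exact Finset.sum_congr rfl fun i _ => mul_comm _ _
    have ep : stdHerm σ 3 w p = 0 := by rw [hwp, dot_self_cross]
    have ep' : stdHerm σ 3 w p' = 0 := by rw [hwp, dot_cross_self]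
    have hwfix : ∀ g, g * g = 1 → ∀ z, (∀ y, ∃ c : F, N g y = c • z) → stdHerm σ 3 w z = 0 →
        stdHerm σ 3 z z = 0 → act g w = w := fun g hg z hz hwz hzz => by
      obtain ⟨c, ec⟩ := hz w
      refine sub_eq_zero.1 (funext fun i => ?_)
      show N g w i = 0
      have h := hform g (ev i) w
      have h2' : stdHerm σ 3 (N g (ev i)) w = 0 := by
        obtain ⟨d, ed⟩ := hz (ev i)
        rw [ed, map_smulₛₗ, LinearMap.smul_apply, ← hB.symm w z, hwz, map_zero, smul_zero]
      have h3' : stdHerm σ 3 (N g (ev i)) (N g w) = 0 := hiso g hg _ _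
      rw [h2', h3', stdHerm_single] at h
      simpa using h
    have hpp : stdHerm σ 3 p p = 0 := hiso _ (tsq (by decide) 1) x0 x0
    have hpp' : stdHerm σ 3 p' p' = 0 := hiso _ (tsq (by decide) 1) y0 y0
    refine ⟨w, fun hww => ?_, fun x => ?_⟩
    · obtain ⟨k, ek⟩ := iso_line hσ hc hw0 hww ep hpp
      obtain ⟨k', ek'⟩ := iso_line hσ hc hw0 hww ep' hpp'
      have hk0 : k' ≠ 0 := fun e => hy0 (by rw [ek', e, zero_smul])
      refine (linearIndependent_fin2.1 hli).2 (k / k') ?_
      simp only [Matrix.cons_val_zero, Matrix.cons_val_one]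
      rw [ek, ek', smul_smul, div_mul_cancel₀ _ hk0]
    · have hall : (stabV F q w).comap φ = ⊤ := sl_subgroup_eq_top _ fun i j hij c => by
        show act (φ _) w = w
        rw [show SpecialLinearGroup.transvection hij c = t i j c by simp [t, hij]]
        rcases (show (i = 0 ∧ j = 1) ∨ (i = 1 ∧ j = 0) by revert hij; fin_cases i <;> fin_cases j <;> simp) with
          ⟨rfl, rfl⟩ | ⟨rfl, rfl⟩
        · exact hwfix _ (tsq hij c) p (hupper c) ep hpp
        · exact hwfix _ (tsq hij c) p' (hlower c) ep' hpp'
      exact (hall ▸ Subgroup.mem_top x : x ∈ (stabV F q w).comap φ)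
  · have h2K : (2 : K) ≠ 0 := fun h => h2 (hKF.1 h)
    let zK : SpecialLinearGroup (Fin 2) K := ⟨-1, by simp [Matrix.det_neg]⟩
    set z := φ zK with hz
    have hzz : z * z = 1 := by
      rw [hz, ← map_mul, show zK * zK = 1 from Subtype.ext (by show (-1 : Matrix (Fin 2) (Fin 2) K) * -1 = 1; simp),
        map_one]
    have hz1 : z ≠ 1 := fun e => h2K (by
      rw [hz, ← map_one φ] at e
      have := congrFun (congrFun (congrArg Subtype.val (hφ e)) 0) 0
      have h : (-1 : K) = 1 := by simpa [zK] using this
      linear_combination -h)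
    have hzc : ∀ x, z * φ x = φ x * z := fun x => by
      rw [hz, ← map_mul, ← map_mul]
      congr 1
      refine Subtype.ext ?_
      show (-1 : Matrix (Fin 2) (Fin 2) K) * x.1 = x.1 * -1
      simp
    let P : Fin 3 → Fin 3 → F := z.1.1
    have hsq : ∀ v, act z (act z v) = v := fun v => by rw [← act_mul, hzz, act_one]
    -- the fixed vectors form a line spanned by a non-isotropic vector
    obtain ⟨w, hw0, hzw, hline⟩ : ∃ w : Fin 3 → F, w ≠ 0 ∧ act z w = w ∧ ∀ v, act z v = v → ∃ c : F, v = c • w := by
      let Z : (Fin 3 → F) →ₗ[F] Fin 3 → F := Matrix.toLin' z.1.1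
      have hZ : ∀ v, Z v = act z v := fun v => Matrix.toLin'_apply _ _
      let Ep := LinearMap.ker (Z - LinearMap.id)
      let Em := LinearMap.ker (Z + LinearMap.id)
      have hmp : ∀ v, v ∈ Ep ↔ act z v = v := fun v => by
        simp only [Ep, LinearMap.mem_ker, LinearMap.sub_apply, LinearMap.id_apply, hZ, sub_eq_zero]
      have hmm : ∀ v, v ∈ Em ↔ act z v = -v := fun v => by
        simp only [Em, LinearMap.mem_ker, LinearMap.add_apply, LinearMap.id_apply, hZ, add_eq_zero_iff_eq_neg]
      have hcompl : IsCompl Ep Em := by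
        constructor
        · rw [Submodule.disjoint_def]
          intro v h1 h2'
          rw [hmp] at h1; rw [hmm, h1] at h2'
          funext i
          have := congrFun h2' i
          simp at this
          exact mul_left_cancel₀ h2 (by show (2 : F) * v i = 2 * 0; linear_combination this)
        · rw [codisjoint_iff, eq_top_iff]
          intro v _
          refine Submodule.mem_sup.2 ⟨(2 : F)⁻¹ • (v + act z v), (hmp _).2 ?_, (2 : F)⁻¹ • (v - act z v), (hmm _).2 ?_, ?_⟩
          · rw [act_smul, act_add, hsq, add_comm]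
          · rw [act_smul, show v - act z v = v + (-1 : F) • act z v by simp [sub_eq_add_neg], act_add, act_smul, hsq]
            funext i; simp; ring
          · funext i; simp; field_simp; ring
      have hdet : z.1.1.det = (-1 : F) ^ Module.finrank F Em := by
        rw [← LinearMap.det_toLin', show Matrix.toLin' z.1.1 = Z from rfl]
        let e := Submodule.prodEquivOfIsCompl Ep Em hcompl
        let L : (Ep × Em) →ₗ[F] Ep × Em := LinearMap.prodMap LinearMap.id ((-1 : F) • LinearMap.id)
        have hconj : Z = (e.toLinearMap.comp L).comp e.symm.toLinearMap := by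
          refine LinearMap.ext fun v => ?_
          obtain ⟨⟨a, b⟩, rfl⟩ := e.surjective v
          simp only [LinearMap.comp_apply, LinearEquiv.coe_coe, LinearEquiv.symm_apply_apply]
          simp only [e, L, Submodule.coe_prodEquivOfIsCompl', LinearMap.prodMap_apply, LinearMap.id_apply,
            LinearMap.smul_apply, map_add, hZ, Submodule.coe_smul, neg_smul, one_smul, Submodule.coe_neg]
          rw [act_add, (hmp _).1 a.2, (hmm _).1 b.2]
        rw [hconj, LinearMap.comp_assoc, LinearMap.det_conj, LinearMap.det_prodMap, LinearMap.det_id, one_mul, LinearMap.det_smul,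
          LinearMap.det_id, mul_one]
      rw [z.1.2] at hdet
      have hsum : Module.finrank F Ep + Module.finrank F Em = 3 := by
        rw [Submodule.finrank_add_eq_of_isCompl hcompl, Module.finrank_fin_fun]
      have hm0 : Module.finrank F Em ≠ 0 := fun e => hz1 (su_ext fun i => by
        have ht : Em = ⊥ := Submodule.finrank_eq_zero.1 e
        have : Ep = ⊤ := by have := hcompl.sup_eq_top; rwa [ht, sup_bot_eq] at this
        rw [act_one]
        exact (hmp _).1 (this ▸ Submodule.mem_top))
      have hm2 : Module.finrank F Em = 2 := by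
        rcases (show Module.finrank F Em = 1 ∨ Module.finrank F Em = 2 ∨ Module.finrank F Em = 3 by omega) with h | h | h
        · rw [h, pow_one] at hdet; exact absurd (by linear_combination hdet) h2
        · exact h
        · rw [h] at hdet; exact absurd (by linear_combination hdet) h2
      obtain ⟨w, hw0, hall⟩ := finrank_eq_one_iff'.1 (show Module.finrank F Ep = 1 by omega)
      refine ⟨w.1, fun e => hw0 (Subtype.ext e), (hmp _).1 w.2, fun v hv => ?_⟩
      obtain ⟨c, e⟩ := hall ⟨v, (hmp v).2 hv⟩
      exact ⟨c, (congrArg Subtype.val e).symm⟩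
    refine ⟨w, fun hww => hw0 ?_, perfect_fix hσ hK φ hw0 fun x => hline _ ?_⟩
    · funext i
      have hperp : ∀ v, act z v = -v → stdHerm σ 3 w v = 0 := fun v hv => by
        have h := su_form hσ z w v
        rw [hzw, hv, map_neg] at h
        exact mul_left_cancel₀ h2 (by show (2 : F) * _ = 2 * 0; linear_combination -h)
      obtain ⟨k, ek⟩ := hline ((2 : F)⁻¹ • (ev i + act z (ev i))) (by rw [act_smul, act_add, hsq, add_comm])
      have e : stdHerm σ 3 w (ev i) = 0 := by
        have hm : stdHerm σ 3 w (ev i - act z (ev i)) = 0 := hperp _ (by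
          rw [sub_eq_add_neg, show -act z (ev i) = (-1 : F) • act z (ev i) by simp, act_add, act_smul, hsq]
          funext j; simp)
        have hp : stdHerm σ 3 w (ev i + act z (ev i)) = 0 := by
          have := congrArg (fun v => (2 : F) • v) ek
          simp only [smul_smul, mul_inv_cancel₀ h2, one_smul] at this
          rw [this, map_smul, hww, smul_zero]
        rw [map_sub] at hm
        rw [map_add] at hp
        exact mul_left_cancel₀ h2 (by show (2 : F) * _ = 2 * 0; linear_combination hm + hp)
      rw [← hB.symm, stdHerm_single, map_eq_zero] at e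
      exact e
    · rw [← act_mul, hzc, act_mul, hzw]

theorem two_zero_iff {K : Type*} [Field K] [Fintype K] (hF : Fintype.card F = q ^ 2) (hK : Fintype.card K = q) :
    (2 : K) = 0 ↔ (2 : F) = 0 := by
  rw [two_zero_iff_even K, two_zero_iff_even F, hF, hK, Nat.even_pow' two_ne_zero]

/-- Such a subgroup is the stabiliser of a non-isotropic vector. -/
theorem stab_classify (hF : Fintype.card F = q ^ 2) (hq : 3 < q) (φ : Cfsg.SU 2 F q →* Cfsg.SU 3 F q)
    (hφ : Function.Injective φ) :
    ∃ h : Cfsg.SU 3 F q, φ.range.map (MulAut.conj h).toMonoidHom = (upp (q := q) hσ).range := by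
  classical
  haveI := Fintype.ofFinite (fixK σ)
  have hcard : Fintype.card (fixK σ) = q := by rw [← Nat.card_eq_fintype_card, SU3Pres.card_fixK hc hσ hF]
  obtain ⟨e⟩ := Cfsg.Agent.S0281.result (K := fixK σ) hF hcard
  obtain ⟨w, hw, hfix⟩ := exists_fixed hσ hc (K := fixK σ) (by omega) (φ.comp e.symm.toMonoidHom)
    (hφ.comp e.symm.injective) (two_zero_iff hσ hc hF hcard)
  obtain ⟨c, hc'⟩ := hc.exists_norm_eq (herm_self_fixed hc w)
  obtain ⟨g, -, eg⟩ := fixS_to_ev hσ hc (i := (2 : Fin 3)) (l := 0) (S := Finset.univ) (v := w) (by simp) (by simp)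
    (by decide) (fun i hi => absurd (Finset.mem_univ i) hi) (fun e => hw (by rw [← hc', e, zero_mul])) hc'.symm
  refine ⟨g⁻¹, Subgroup.eq_of_le_of_card_ge ?_ ?_⟩
  · rintro _ ⟨_, ⟨y, rfl⟩, rfl⟩
    rw [upp_range, ← stab_ev_two, ← stab_smul (fun e => hw (by rw [← hc', e, zero_mul]) : c ≠ 0)]
    have hm : φ y ∈ stabV F q (act g (c • ev 2)) := by
      rw [eg]
      have := hfix (e y)
      show act (φ y) w = w
      simpa using this
    simpa [mul_assoc] using mem_stab_conj.1 hm
  · rw [Subgroup.card_map_of_injective (MulAut.conj g⁻¹).injective,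
      ← Nat.card_congr (MonoidHom.ofInjective hφ).toEquiv]
    exact (Nat.card_congr (MonoidHom.ofInjective (emb_injective (q := q) hσ f01)).toEquiv).symm.le

end CfsgLib.Phan
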