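import Cfsg.Agent.Lib.KnownB.Phan.Data

/-!
# Extending along a window of four coordinates

A homomorphism on the coordinates `L ∪ {i, j}`, where `L` has at least two elements, and one on a window `{l, i, j, t}`
of four coordinates with `l ∈ L`, agreeing on `{l, i, j}`, such that the images of `L ∪ {i}` and `{j, t}` commute, extend
to `L ∪ {i, j, t}`. There is no restriction on the field.
-/

set_option autoImplicit false
set_option linter.unusedSectionVars false

open Matrix CfsgLib.Classical CfsgLib.SUPres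

namespace CfsgLib.Phan

/-- The data of the step. -/
structure Win4 (F : Type*) [Field F] (n q : ℕ) (G : Type*) [Group G] where
  L : Finset (Fin n)
  l : Fin n
  l' : Fin n
  i : Fin n
  j : Fin n
  t : Fin n
  hl : l ∈ L
  hl' : l' ∈ L
  hll : l' ≠ l
  hiL : i ∉ L
  hjL : j ∉ L
  htL : t ∉ L
  hij : i ≠ j
  hit : i ≠ t
  hjt : j ≠ t
  α : fixS F q (insert j (insert i L)) →* G
  γ : fixS F q ({l, i, j, t} : Finset (Fin n)) →* G
  agree : ∀ (x : Cfsg.SU n F q) (h1 : x ∈ fixS F q (insert j (insert i L)))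
    (h2 : x ∈ fixS F q ({l, i, j, t} : Finset (Fin n))),
    x ∈ fixS F q ({l, i, j} : Finset (Fin n)) → α ⟨x, h1⟩ = γ ⟨x, h2⟩
  comm : ∀ (x : fixS F q (insert j (insert i L))) (y : fixS F q ({l, i, j, t} : Finset (Fin n))),
    x.1 ∈ fixS F q (insert i L) → y.1 ∈ fixS F q ({j, t} : Finset (Fin n)) → Commute (α x) (γ y)
  comm2 : ∀ (x : fixS F q (insert j (insert i L))) (y : fixS F q ({l, i, j, t} : Finset (Fin n))),
    x.1 ∈ fixS F q L → y.1 ∈ fixS F q ({i, j, t} : Finset (Fin n)) → Commute (α x) (γ y)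

namespace Win4

variable {F : Type*} [Field F] [Fintype F] {n q : ℕ} {G : Type*} [Group G] (D : Win4 F n q G)

/-- The coordinates of the first subgroup without the last one. -/
abbrev SI : Finset (Fin n) := insert D.i D.L

/-- The coordinates of the first subgroup. -/
abbrev S3 : Finset (Fin n) := insert D.j D.SI

/-- All coordinates. -/
abbrev SA : Finset (Fin n) := insert D.t D.S3

/-- The window. -/
abbrev SW : Finset (Fin n) := {D.l, D.i, D.j, D.t}

/-- The last three coordinates of the window. -/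
abbrev SK : Finset (Fin n) := {D.i, D.j, D.t}

/-- The last two coordinates. -/
abbrev SJ : Finset (Fin n) := {D.j, D.t}

/-- The common coordinates. -/
abbrev SC : Finset (Fin n) := {D.l, D.i, D.j}

theorem li : D.l ≠ D.i := fun e => D.hiL (e ▸ D.hl)
theorem lj : D.l ≠ D.j := fun e => D.hjL (e ▸ D.hl)
theorem lt : D.l ≠ D.t := fun e => D.htL (e ▸ D.hl)
theorem l'i : D.l' ≠ D.i := fun e => D.hiL (e ▸ D.hl')
theorem l'j : D.l' ≠ D.j := fun e => D.hjL (e ▸ D.hl')

theorem jSI : D.j ∉ D.SI := by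
  simp only [SI, Finset.mem_insert, not_or]
  exact ⟨D.hij.symm, D.hjL⟩

theorem tS3 : D.t ∉ D.S3 := by
  simp only [S3, SI, Finset.mem_insert, not_or]
  exact ⟨D.hjt.symm, D.hit.symm, D.htL⟩

theorem SI_S3 : D.SI ⊆ D.S3 := Finset.subset_insert _ _
theorem S3_SA : D.S3 ⊆ D.SA := Finset.subset_insert _ _
theorem SC_S3 : D.SC ⊆ D.S3 := by simp [SC, S3, SI, Finset.insert_subset_iff, D.hl]
theorem SC_SW : D.SC ⊆ D.SW := by simp [SC, SW, Finset.insert_subset_iff]
theorem SJ_SK : D.SJ ⊆ D.SK := by simp [SJ, SK]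
theorem SK_SW : D.SK ⊆ D.SW := by simp [SK, SW]
theorem SJ_SW : D.SJ ⊆ D.SW := D.SJ_SK.trans D.SK_SW
theorem SW_SA : D.SW ⊆ D.SA := by simp [SW, SA, S3, SI, Finset.insert_subset_iff, D.hl]

theorem disjoint_SI_SJ : Disjoint D.SI D.SJ := by
  simp only [SJ, Finset.disjoint_insert_right, Finset.disjoint_singleton_right]
  exact ⟨D.jSI, fun h => D.tS3 (D.SI_S3 h)⟩

/-- The graph of the first homomorphism. -/
noncomputable def A (g : Cfsg.SU n F q) : G × Cfsg.SU n F q :=
  haveI := _root_.Classical.propDecidable (g ∈ fixS F q D.S3)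
  if h : g ∈ fixS F q D.S3 then (D.α ⟨g, h⟩, g) else 1

/-- The graph of the homomorphism on the window. -/
noncomputable def B (g : Cfsg.SU n F q) : G × Cfsg.SU n F q :=
  haveI := _root_.Classical.propDecidable (g ∈ fixS F q D.SW)
  if h : g ∈ fixS F q D.SW then (D.γ ⟨g, h⟩, g) else 1

theorem A_def {g : Cfsg.SU n F q} (h : g ∈ fixS F q D.S3) : D.A g = (D.α ⟨g, h⟩, g) := dif_pos h
theorem B_def {g : Cfsg.SU n F q} (h : g ∈ fixS F q D.SW) : D.B g = (D.γ ⟨g, h⟩, g) := dif_pos h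

theorem A_mul {g h : Cfsg.SU n F q} (hg : g ∈ fixS F q D.S3) (hh : h ∈ fixS F q D.S3) :
    D.A (g * h) = D.A g * D.A h := by
  rw [D.A_def hg, D.A_def hh, D.A_def (mul_mem hg hh), Prod.mk_mul_mk, ← map_mul D.α]
  rfl

theorem B_mul {g h : Cfsg.SU n F q} (hg : g ∈ fixS F q D.SW) (hh : h ∈ fixS F q D.SW) :
    D.B (g * h) = D.B g * D.B h := by
  rw [D.B_def hg, D.B_def hh, D.B_def (mul_mem hg hh), Prod.mk_mul_mk, ← map_mul D.γ]
  rfl

theorem A_one : D.A 1 = 1 := by
  rw [D.A_def (one_mem _)]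
  exact Prod.ext (map_one D.α) rfl

theorem B_one : D.B 1 = 1 := by
  rw [D.B_def (one_mem _)]
  exact Prod.ext (map_one D.γ) rfl

theorem A_inv {g : Cfsg.SU n F q} (hg : g ∈ fixS F q D.S3) : D.A g⁻¹ = (D.A g)⁻¹ :=
  eq_inv_of_mul_eq_one_left (by rw [← D.A_mul (inv_mem hg) hg, inv_mul_cancel, A_one])

theorem B_inv {g : Cfsg.SU n F q} (hg : g ∈ fixS F q D.SW) : D.B g⁻¹ = (D.B g)⁻¹ :=
  eq_inv_of_mul_eq_one_left (by rw [← D.B_mul (inv_mem hg) hg, inv_mul_cancel, B_one])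

theorem AB_eq {g : Cfsg.SU n F q} (hg : g ∈ fixS F q D.SC) : D.A g = D.B g := by
  rw [D.A_def (fixS_mono D.SC_S3 hg), D.B_def (fixS_mono D.SC_SW hg),
    D.agree g (fixS_mono D.SC_S3 hg) (fixS_mono D.SC_SW hg) hg]

/-- The graph of the first homomorphism as a subgroup. -/
def gA : Subgroup (G × Cfsg.SU n F q) := (D.α.prod (fixS F q D.S3).subtype).range

/-- The cosets of the graph. -/
abbrev X : Type _ := (G × Cfsg.SU n F q) ⧸ D.gA

/-- The base coset. -/
abbrev base : D.X := ((1 : G × Cfsg.SU n F q) : D.X)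

theorem A_base {g : Cfsg.SU n F q} (hg : g ∈ fixS F q D.S3) : D.A g • D.base = D.base := by
  rw [MulAction.Quotient.smul_mk, smul_eq_mul, mul_one]
  refine QuotientGroup.eq.2 ?_
  rw [mul_one]
  exact inv_mem ⟨⟨g, hg⟩, (D.A_def hg).symm⟩

theorem B_base {g : Cfsg.SU n F q} (hg : g ∈ fixS F q D.SC) : D.B g • D.base = D.base := by
  rw [← D.AB_eq hg]
  exact D.A_base (fixS_mono D.SC_S3 hg)

theorem stab_base {p : G × Cfsg.SU n F q} (h : p • D.base = D.base) (h2 : p.2 = 1) : p = 1 := by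
  rw [MulAction.Quotient.smul_mk, smul_eq_mul, mul_one, QuotientGroup.eq, mul_one] at h
  obtain ⟨x, hx⟩ := (inv_mem_iff.1 h)
  have e2 : (x : Cfsg.SU n F q) = 1 := (congrArg Prod.snd hx).trans h2
  rw [← hx, show x = 1 from Subtype.ext e2, map_one]

variable {σ : F →+* F} (hσ : ∀ x, σ x = x ^ q) (hc : IsConjugation σ)
include hσ

theorem AB_comm {x y : Cfsg.SU n F q} (hx : x ∈ fixS F q D.SI) (hy : y ∈ fixS F q D.SJ) :
    Commute (D.A x) (D.B y) := by
  rw [D.A_def (fixS_mono D.SI_S3 hx), D.B_def (fixS_mono D.SJ_SW hy)]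
  exact Prod.ext (D.comm ⟨x, _⟩ ⟨y, _⟩ hx hy).eq (fixS_commute hσ D.disjoint_SI_SJ hx hy).eq

theorem B_fix {k k' : Cfsg.SU n F q} (hk : k ∈ fixS F q D.SW) (hk' : k' ∈ fixS F q D.SW)
    (e : act k (ev D.t) = act k' (ev D.t)) : D.B k • D.base = D.B k' • D.base := by
  have hfix : k'⁻¹ * k ∈ fixS F q D.SC := fun m hm => by
    by_cases hmt : m = D.t
    · subst hmt; rw [act_mul, e, ← act_mul, inv_mul_cancel, act_one]
    · exact mul_mem (inv_mem hk') hk m (by simp [SC, SW, hmt] at hm ⊢; exact hm)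
  rw [show k = k' * (k'⁻¹ * k) by rw [mul_inv_cancel_left], D.B_mul hk' (fixS_mono D.SC_SW hfix), mul_smul,
    D.B_base hfix]

include hc

theorem gen_SI {H : Subgroup (Cfsg.SU n F q)} (h1 : fixS F q D.SI ≤ H) {e : Cfsg.SU n F q}
    (he : e ∈ fixS F q ({D.i, D.j} : Finset (Fin n))) (heH : e ∈ H) (ei : act e (ev D.i) = ev D.j)
    (ej : act e (ev D.j) = -ev D.i) : fixS F q D.S3 ≤ H :=
  fixS_insert_le hσ hc (d := D.j) (i := D.l) (j := D.i) (l := D.l') D.jSI (by simp [SI, D.hl]) (by simp [SI])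
    (by simp [SI, D.hl']) D.li D.hll D.l'i h1 he heH ei ej

/-- An element of the first subgroup fixing the first part of a vector of the window. -/
theorem stab_fix {u : Fin n → F} (hu : Supp u {D.i, D.j}) {b : F}
    (hn : stdHerm σ n u u + b * σ b = 1) {k : Cfsg.SU n F q} (hk : k ∈ fixS F q D.SW)
    (hke : act k (ev D.t) = u + b • ev D.t) (hcan : u = 0 ∨ (∃ c : F, c ≠ 0 ∧ u = c • ev D.j) ∨
      ∃ (c ρ : F), c ≠ 0 ∧ ρ * σ ρ = -1 ∧ u = c • (ev D.i + ρ • ev D.j))
    {g : Cfsg.SU n F q} (hg : g ∈ fixS F q D.S3) (hgu : act g u = u) :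
    D.A g • D.B k • D.base = D.B k • D.base := by
  classical
  set v := u + b • ev D.t with hv
  let Q : Subgroup (Cfsg.SU n F q) :=
    { carrier := {x | x ∈ fixS F q D.S3 ∧ D.A x • D.B k • D.base = D.B k • D.base}
      one_mem' := ⟨one_mem _, by rw [D.A_one, one_smul]⟩
      mul_mem' := fun {x y} hx hy => ⟨mul_mem hx.1 hy.1, by rw [D.A_mul hx.1 hy.1, mul_smul, hy.2, hx.2]⟩
      inv_mem' := fun {x} hx => ⟨inv_mem hx.1, by rw [D.A_inv hx.1, inv_smul_eq_iff, hx.2]⟩ }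
  have inWin : ∀ x ∈ fixS F q D.SC, act x u = u → x ∈ Q := fun x hx hxu => ⟨fixS_mono D.SC_S3 hx, by
    rw [D.AB_eq hx, ← mul_smul, ← D.B_mul (fixS_mono D.SC_SW hx) hk]
    refine D.B_fix hσ (mul_mem (fixS_mono D.SC_SW hx) hk) hk ?_
    rw [act_mul, hke, hv, act_add, act_smul, hxu, hx D.t (by simp [SC, D.lt.symm, D.hit.symm, D.hjt.symm])]⟩
  have commSJ : ∀ x ∈ fixS F q D.SI, (∃ s ∈ fixS F q D.SJ, act s (ev D.t) = v) → x ∈ Q := by
    rintro x hx ⟨s, hs, es⟩
    refine ⟨fixS_mono D.SI_S3 hx, ?_⟩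
    rw [D.B_fix hσ hk (fixS_mono D.SJ_SW hs) (hke.trans es.symm), ← mul_smul, (D.AB_comm hσ hx hs).eq, mul_smul,
      D.A_base (fixS_mono D.SI_S3 hx)]
  have hvn : stdHerm σ n v v = 1 := by
    rw [hv, herm_add_disjoint hu fun m hm => by
      simp at hm
      rcases hm with rfl | rfl <;> simp [ev, D.hit, D.hjt]]
    simp [herm_ev_self, mul_comm]
    linear_combination hn
  have hSJ : ∀ c : F, u = c • ev D.j → ∃ s ∈ fixS F q D.SJ, act s (ev D.t) = v := fun c e => by
    obtain ⟨s, hs, es⟩ := fixS_to_ev hσ hc (i := D.t) (l := D.j) (S := D.SJ) (v := v) (by simp [SJ]) (by simp [SJ])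
      D.hjt (by rw [hv, e]; exact ((supp_ev (by simp [SJ])).smul _).add ((supp_ev (by simp [SJ])).smul _))
      one_ne_zero (by rw [hvn, map_one, mul_one])
    exact ⟨s, hs, by rwa [one_smul] at es⟩
  suffices g ∈ Q from this.2
  rcases hcan with h0 | ⟨c, hc0, hcu⟩ | ⟨c, ρ, hc0, hρ, hcu⟩
  · obtain ⟨e, he, ei, ej⟩ := exists_exchange hσ hc D.hij
    refine D.gen_SI hσ hc (H := Q) (fun x hx => commSJ x hx (hSJ 0 (by rw [h0, zero_smul]))) he
      (inWin e (fixS_mono (by simp [SC]) he) (by rw [h0]; simp [act])) ei ej hg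
  · refine commSJ g (fun m hm => ?_) (hSJ c hcu)
    by_cases hmj : m = D.j
    · subst hmj
      rw [hcu, act_smul] at hgu
      exact smul_right_injective _ hc0 hgu
    · exact hg m (by simp [S3, SI, hmj] at hm ⊢; exact hm)
  · -- the vector can be reached inside the last three coordinates
    obtain ⟨k3, hk3, ek3⟩ := fixS_to_ev hσ hc (i := D.t) (l := D.j) (S := D.SK) (v := v) (by simp [SK]) (by simp [SK])
      D.hjt (by rw [hv]; exact (hu.mono (by simp [SK, Finset.insert_subset_iff])).add ((supp_ev (by simp [SK])).smul _))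
      one_ne_zero (by rw [hvn, map_one, mul_one])
    rw [one_smul] at ek3
    -- which commutes with the coordinates of `L`
    have hLI : D.L ⊆ D.SI := Finset.subset_insert _ _
    have hL3 := hLI.trans D.SI_S3
    have hLQ : fixS F q D.L ≤ Q := fun x hx => ⟨fixS_mono hL3 hx, by
      rw [D.B_fix hσ hk (fixS_mono D.SK_SW hk3) (hke.trans ek3.symm), ← mul_smul]
      have hcm : Commute (D.A x) (D.B k3) := by
        rw [D.A_def (fixS_mono hL3 hx), D.B_def (fixS_mono D.SK_SW hk3)]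
        refine Prod.ext (D.comm2 ⟨x, _⟩ ⟨k3, _⟩ hx hk3).eq (fixS_commute hσ ?_ hx hk3).eq
        simp [SK, Finset.disjoint_insert_right, D.hiL, D.hjL, D.htL]
      rw [hcm.eq, mul_smul, D.A_base (fixS_mono hL3 hx)]⟩
    have hgu' : act g (ev D.i + ρ • ev D.j) = ev D.i + ρ • ev D.j := by
      rw [hcu, act_smul] at hgu
      exact smul_right_injective _ hc0 hgu
    refine stab_iso_le hσ hc (S' := D.L) (a := D.i) (b := D.j) (c := D.l) (l := D.l') D.hiL D.hjL D.hij D.hl D.hl'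
      D.hll hρ hLQ (fun x hx hxu => inWin x hx (by rw [hcu, act_smul, hxu])) ?_ hgu'
    rw [show insert D.i (insert D.j D.L) = D.S3 from Finset.insert_comm _ _ _]
    exact hg

/-- A canonical vector on the last two coordinates of the first subgroup. -/
theorem canon {x : Fin n → F} (hx : Supp x D.S3) :
    ∃ u : Fin n → F, Supp u {D.i, D.j} ∧ stdHerm σ n u u = stdHerm σ n x x ∧ (x = 0 → u = 0) ∧ (x ≠ 0 → u ≠ 0) ∧
      (u = 0 ∨ (∃ c : F, c ≠ 0 ∧ u = c • ev D.j) ∨
        ∃ (c ρ : F), c ≠ 0 ∧ ρ * σ ρ = -1 ∧ u = c • (ev D.i + ρ • ev D.j)) := by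
  classical
  by_cases h0 : x = 0
  · exact ⟨0, fun _ _ => rfl, by rw [h0], fun _ => rfl, fun h => absurd h0 h, Or.inl rfl⟩
  by_cases hn : stdHerm σ n x x = 0
  · obtain ⟨ρ, hρ⟩ := exists_rho hc
    refine ⟨(1 : F) • (ev D.i + ρ • ev D.j), ((supp_ev (by simp)).add ((supp_ev (by simp)).smul ρ)).smul 1, ?_,
      fun h => absurd h h0, fun _ e => ?_, Or.inr (Or.inr ⟨1, ρ, one_ne_zero, hρ, rfl⟩)⟩
    · rw [hn]
      simp [herm_ev_self, herm_ev_ne D.hij, herm_ev_ne D.hij.symm]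
      linear_combination hρ
    · have := congrFun e D.i
      simp [ev, D.hij] at this
  · obtain ⟨c, hc'⟩ := hc.exists_norm_eq (herm_self_fixed hc x)
    have hc0 : c ≠ 0 := fun e => hn (by rw [← hc', e, zero_mul])
    refine ⟨c • ev D.j, (supp_ev (by simp)).smul c, ?_, fun h => absurd h h0, fun _ e => hc0 ?_,
      Or.inr (Or.inl ⟨c, hc0, rfl⟩)⟩
    · rw [← hc']; simp [herm_ev_self, mul_comm]
    · simpa [ev] using congrFun e D.j

/-- The transport to a canonical vector. -/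
theorem to_canon {S : Finset (Fin n)} (hS : D.SC ⊆ S) {x u : Fin n → F} (hx : Supp x S)
    (hu : Supp u {D.i, D.j}) (hn : stdHerm σ n u u = stdHerm σ n x x) (h0 : x = 0 → u = 0) (h1 : x ≠ 0 → u ≠ 0) :
    ∃ g ∈ fixS F q S, act g u = x := by
  classical
  by_cases hx0 : x = 0
  · exact ⟨1, one_mem _, by rw [act_one, h0 hx0, hx0]⟩
  obtain ⟨g, hg, eg⟩ := fixS_trans hσ hc hx (hu.mono (fun m hm => hS (by simp [SC] at hm ⊢; exact Or.inr hm))) hx0
    (h1 hx0) hn.symm (l := D.l) (hS (by simp [SC])) (hu D.l (by simp [D.li, D.lj]))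
  exact ⟨g⁻¹, inv_mem hg, act_inv_of eg⟩

theorem dec_unique {h h' k k' : Cfsg.SU n F q} (hh : h ∈ fixS F q D.S3) (hh' : h' ∈ fixS F q D.S3)
    (hk : k ∈ fixS F q D.SW) (hk' : k' ∈ fixS F q D.SW) (e : act h (act k (ev D.t)) = act h' (act k' (ev D.t))) :
    D.A h • D.B k • D.base = D.A h' • D.B k' • D.base := by
  classical
  set g := h'⁻¹ * h with hg'
  have hg : g ∈ fixS F q D.S3 := mul_mem (inv_mem hh') hh
  have eg : act g (act k (ev D.t)) = act k' (ev D.t) := by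
    rw [hg', act_mul, e, ← act_mul h'⁻¹ h', inv_mul_cancel, act_one]
  suffices D.A g • D.B k • D.base = D.B k' • D.base by
    rw [show h = h' * g by simp [hg'], D.A_mul hh' hg, mul_smul, this]
  set w := act k (ev D.t) with hw
  set w' := act k' (ev D.t) with hw'
  have hws : Supp w D.SW := fixS_supp hσ hk subset_rfl (supp_ev (by simp [SW]))
  have hws' : Supp w' D.SW := fixS_supp hσ hk' subset_rfl (supp_ev (by simp [SW]))
  have rest : ∀ x : Fin n → F, Supp x D.SW → Supp (x - x D.t • ev D.t) D.SC := fun x hx m hm => by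
    by_cases hmt : m = D.t
    · subst hmt; simp [ev]
    · simp [ev, Pi.single_eq_of_ne (M := fun _ => F) hmt (1 : F), hx m (by simp [SC, SW, hmt] at hm ⊢; exact hm)]
  set x := w - w D.t • ev D.t with hx'
  set x' := w' - w' D.t • ev D.t with hx''
  have ht : w' D.t = w D.t := by rw [← eg, fixS_coord hσ hg w D.tS3]
  have hgx : act g x = x' := by
    rw [hx', hx'', ← eg, fixS_coord hσ hg w D.tS3,
      show w - w D.t • ev D.t = w + (-(w D.t)) • ev D.t by simp [sub_eq_add_neg], act_add, act_smul, hg D.t D.tS3]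
    simp [sub_eq_add_neg]
  obtain ⟨u, hu, hun, h0, h1, hcan⟩ := D.canon hσ hc ((rest w hws).mono D.SC_S3)
  obtain ⟨r, hr, er⟩ := D.to_canon hσ hc subset_rfl (rest w hws) hu hun h0 h1
  obtain ⟨r', hr', er'⟩ := D.to_canon hσ hc subset_rfl (rest w' hws') hu
    (by show _ = stdHerm σ n x' x'; rw [hun, ← hgx, su_form hσ])
    (fun e => h0 (by
      have := congrArg (act g⁻¹) hgx
      rw [← act_mul, inv_mul_cancel, act_one] at this
      show x = 0
      rw [this, show x' = 0 from e]; simp [act]))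
    (fun e => h1 (fun e' => e (by
      show x' = 0
      rw [← hgx, show x = 0 from e']; simp [act])))
  have hr3 := fixS_mono D.SC_S3 hr
  have hr3' := fixS_mono D.SC_S3 hr'
  have hrW := fixS_mono D.SC_SW hr
  have hrW' := fixS_mono D.SC_SW hr'
  have hfix : act (r'⁻¹ * g * r) u = u := by rw [act_mul, act_mul, er, hgx, act_inv_of er']
  have hwn : stdHerm σ n u u + w D.t * σ (w D.t) = 1 := by
    rw [hun]
    have h : stdHerm σ n w w = 1 := by rw [hw, su_form hσ, herm_ev_self]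
    rw [← h]
    conv_rhs => rw [show w = x + w D.t • ev D.t by simp [hx']]
    rw [herm_add_disjoint (rest w hws) fun m hm => by
      simp [SC] at hm
      rcases hm with rfl | rfl | rfl <;> simp [ev, D.lt, D.hit, D.hjt]]
    simp [herm_ev_self, mul_comm]
  have hke : act (r⁻¹ * k) (ev D.t) = u + w D.t • ev D.t := by
    rw [act_mul, ← hw]
    conv_lhs => rw [show w = x + w D.t • ev D.t by simp [hx']]
    rw [act_add, act_smul, act_inv_of er, inv_mem hr D.t (by simp [SC, D.lt.symm, D.hit.symm, D.hjt.symm])]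
  have key := D.stab_fix hσ hc hu hwn (mul_mem (inv_mem hrW) hk) hke hcan
    (mul_mem (mul_mem (inv_mem hr3') hg) hr3) hfix
  rw [D.A_mul (mul_mem (inv_mem hr3') hg) hr3, D.A_mul (inv_mem hr3') hg, D.A_inv hr3', mul_smul, mul_smul,
    D.AB_eq hr, ← mul_smul (D.B r), ← D.B_mul hrW (mul_mem (inv_mem hrW) hk), mul_inv_cancel_left,
    inv_smul_eq_iff] at key
  rw [key, D.AB_eq hr', ← mul_smul, ← D.B_mul hrW' (mul_mem (inv_mem hrW) hk)]
  refine D.B_fix hσ (mul_mem hrW' (mul_mem (inv_mem hrW) hk)) hk' ?_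
  rw [act_mul, hke, act_add, act_smul, er', hr' D.t (by simp [SC, D.lt.symm, D.hit.symm, D.hjt.symm]), ← hw', ← ht]
  simp

theorem exists_dec {v : Fin n → F} (hv : Supp v D.SA) (hn : stdHerm σ n v v = 1) :
    ∃ h ∈ fixS F q D.S3, ∃ k ∈ fixS F q D.SW, v = act h (act k (ev D.t)) := by
  classical
  set x := v - v D.t • ev D.t
  have hx : Supp x D.S3 := fun m hm => by
    by_cases hmt : m = D.t
    · subst hmt; simp [x, ev]
    · simp [x, ev, Pi.single_eq_of_ne (M := fun _ => F) hmt (1 : F),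
        hv m (by simp only [SA, Finset.mem_insert, not_or]; exact ⟨hmt, by simpa [S3, SI] using hm⟩)]
  obtain ⟨u, hu, hun, h0, h1, -⟩ := D.canon hσ hc hx
  obtain ⟨h, hh, eh⟩ := D.to_canon hσ hc D.SC_S3 hx hu hun h0 h1
  have hsum : stdHerm σ n u u + v D.t * σ (v D.t) = 1 := by
    rw [hun, ← hn]
    conv_rhs => rw [show v = x + v D.t • ev D.t by simp [x]]
    rw [herm_add_disjoint hx fun m hm => by
      simp [ev, Pi.single_eq_of_ne (M := fun _ => F) (fun e : m = D.t => D.tS3 (e ▸ hm)) (1 : F)]]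
    simp [herm_ev_self, mul_comm]
  obtain ⟨k, hk, ek⟩ := fixS_to_ev hσ hc (i := D.t) (l := D.j) (S := D.SW) (v := u + v D.t • ev D.t) (by simp [SW])
    (by simp [SW]) D.hjt ((hu.mono (by simp [SW, Finset.insert_subset_iff])).add ((supp_ev (by simp [SW])).smul _))
    one_ne_zero (by
      rw [herm_add_disjoint hu fun m hm => by
        simp at hm
        rcases hm with rfl | rfl <;> simp [ev, D.hit, D.hjt]]
      simp [herm_ev_self, mul_comm]
      linear_combination hsum)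
  rw [one_smul] at ek
  refine ⟨h, hh, k, hk, ?_⟩
  rw [ek, act_add, eh, act_smul, hh D.t D.tS3]
  simp [x]

omit hσ hc in
/-- The coset of a unit vector. -/
noncomputable def f (v : Fin n → F) : D.X :=
  haveI := _root_.Classical.propDecidable
    (∃ hk : Cfsg.SU n F q × Cfsg.SU n F q, hk.1 ∈ fixS F q D.S3 ∧ hk.2 ∈ fixS F q D.SW ∧
      v = act hk.1 (act hk.2 (ev D.t)))
  if h : ∃ hk : Cfsg.SU n F q × Cfsg.SU n F q, hk.1 ∈ fixS F q D.S3 ∧ hk.2 ∈ fixS F q D.SW ∧
      v = act hk.1 (act hk.2 (ev D.t))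
  then D.A h.choose.1 • D.B h.choose.2 • D.base else D.base

theorem f_eq {h k : Cfsg.SU n F q} (hh : h ∈ fixS F q D.S3) (hk : k ∈ fixS F q D.SW) {v : Fin n → F}
    (e : v = act h (act k (ev D.t))) : D.f v = D.A h • D.B k • D.base := by
  have hex : ∃ hk : Cfsg.SU n F q × Cfsg.SU n F q, hk.1 ∈ fixS F q D.S3 ∧ hk.2 ∈ fixS F q D.SW ∧
      v = act hk.1 (act hk.2 (ev D.t)) := ⟨(h, k), hh, hk, e⟩
  rw [f, dif_pos hex]
  obtain ⟨a1, a2, a3⟩ := hex.choose_spec
  exact D.dec_unique hσ hc a1 hh a2 hk (a3.symm.trans e)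

/-- The pairs of a group element and a matrix moving the cosets as the matrix moves the vectors. -/
def equivariant : Subgroup (G × Cfsg.SU n F q) where
  carrier := {p | p.2 ∈ fixS F q D.SA ∧ ∀ v, Supp v D.SA → stdHerm σ n v v = 1 → D.f (act p.2 v) = p • D.f v}
  one_mem' := ⟨one_mem _, fun v _ _ => by rw [one_smul, Prod.snd_one, act_one]⟩
  mul_mem' := fun {a b} ⟨ha, ea⟩ ⟨hb, eb⟩ => ⟨mul_mem ha hb, fun v hv hn => by
    rw [Prod.snd_mul, act_mul, ea _ (fixS_supp hσ hb subset_rfl hv) (by rw [su_form hσ]; exact hn), eb v hv hn,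
      mul_smul]⟩
  inv_mem' := fun {a} ⟨ha, ea⟩ => ⟨inv_mem ha, fun v hv hn => by
    have h := ea _ (fixS_supp hσ (inv_mem ha) subset_rfl hv) (by rw [su_form hσ]; exact hn)
    rw [← act_mul, mul_inv_cancel, act_one] at h
    rw [Prod.snd_inv, eq_inv_smul_iff, h]⟩

/-- The extension. -/
theorem exists_extension :
    ∃ Φ : fixS F q D.SA →* G,
      (∀ (g : Cfsg.SU n F q) (h : g ∈ fixS F q D.S3), Φ ⟨g, fixS_mono D.S3_SA h⟩ = D.α ⟨g, h⟩) ∧
      (∀ (g : Cfsg.SU n F q) (h : g ∈ fixS F q D.SW), Φ ⟨g, fixS_mono D.SW_SA h⟩ = D.γ ⟨g, h⟩) := by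
  classical
  set P0 : Subgroup (G × Cfsg.SU n F q) :=
    Subgroup.closure {p | (∃ x ∈ fixS F q D.S3, p = D.A x) ∨ ∃ x ∈ fixS F q D.SJ, p = D.B x} with hP0
  have hle : P0 ≤ D.equivariant hσ := (Subgroup.closure_le _).2 (by
    rintro p (⟨x, hx, rfl⟩ | ⟨x, hx, rfl⟩)
    · refine ⟨by rw [D.A_def hx]; exact fixS_mono D.S3_SA hx, fun v hv hn => ?_⟩
      rw [show (D.A x).2 = x by rw [D.A_def hx]]
      obtain ⟨h, hh, k, hk, e⟩ := D.exists_dec hσ hc hv hn
      rw [D.f_eq hσ hc hh hk e, D.f_eq hσ hc (mul_mem hx hh) hk (by rw [e, ← act_mul x h]), D.A_mul hx hh, mul_smul]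
    · refine ⟨by rw [D.B_def (fixS_mono D.SJ_SW hx)]; exact fixS_mono (D.SJ_SW.trans D.SW_SA) hx, fun v hv hn => ?_⟩
      rw [show (D.B x).2 = x by rw [D.B_def (fixS_mono D.SJ_SW hx)]]
      -- bring the part in the first coordinates into the window
      let p : Fin n → F := fun m => if m ∈ D.SI then v m else 0
      have hp : Supp p D.SI := fun m hm => if_neg hm
      obtain ⟨h0, hh0, hmv⟩ := move_into hσ hc (i := D.l) (j := D.i) (l := D.l') (by simp [SI, D.hl]) (by simp [SI])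
        (by simp [SI, D.hl']) D.li D.hll D.l'i hp
      have hrest : ∀ m ∈ D.SI, (v - p) m = 0 := fun m hm => by simp only [Pi.sub_apply, p, if_pos hm, sub_self]
      have hw : Supp (act h0 v) D.SW := by
        rw [show v = p + (v - p) by simp, act_add, fixS_fix hσ hh0 hrest]
        refine (hmv.mono (by simp [SW, Finset.insert_subset_iff])).add fun m hm => ?_
        by_cases hmI : m ∈ D.SI
        · exact hrest m hmI
        · have : m ∉ D.SA := by
            simp only [SW, Finset.mem_insert, Finset.mem_singleton, not_or] at hm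
            simp only [SI, Finset.mem_insert, not_or] at hmI
            simp only [SA, S3, SI, Finset.mem_insert, not_or]
            exact ⟨hm.2.2.2, hm.2.2.1, hmI⟩
          simp [p, hmI, hv m this]
      obtain ⟨k, hk, ek⟩ := fixS_to_ev hσ hc (i := D.t) (l := D.j) (S := D.SW) (by simp [SW]) (by simp [SW]) D.hjt hw
        one_ne_zero (by rw [su_form hσ, hn, map_one, mul_one])
      rw [one_smul] at ek
      have hh3 := inv_mem (fixS_mono D.SI_S3 hh0)
      have e : v = act h0⁻¹ (act k (ev D.t)) := by rw [ek]; exact (act_inv_of (g := h0) (x := v) rfl).symm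
      have hcm := (fixS_commute hσ D.disjoint_SI_SJ (inv_mem hh0) hx).eq
      rw [D.f_eq hσ hc hh3 hk e, D.f_eq hσ hc hh3 (mul_mem (fixS_mono D.SJ_SW hx) hk) (by
        rw [e]; simp only [← act_mul, ← mul_assoc, hcm]),
        D.B_mul (fixS_mono D.SJ_SW hx) hk, mul_smul, ← mul_smul (D.A h0⁻¹), (D.AB_comm hσ (inv_mem hh0) hx).eq,
        mul_smul])
  have hinj : ∀ p ∈ P0, p.2 = 1 → p = 1 := fun p hp h2 => by
    have he := (hle hp).2 (ev D.t) (supp_ev (Finset.mem_insert_self _ _)) (herm_ev_self _)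
    rw [h2, act_one, D.f_eq hσ hc (one_mem _) (one_mem _) (by rw [act_one, act_one]), D.A_one, one_smul, D.B_one,
      one_smul] at he
    exact D.stab_base he.symm h2
  have hA : ∀ x ∈ fixS F q D.S3, D.A x ∈ P0 := fun x hx => Subgroup.subset_closure (Or.inl ⟨x, hx, rfl⟩)
  obtain ⟨s, hs, ej, et⟩ := exists_exchange hσ hc D.hjt
  have hB : ∀ x ∈ fixS F q D.SW, D.B x ∈ P0 := by
    let H : Subgroup (Cfsg.SU n F q) :=
      { carrier := {x | x ∈ fixS F q D.SW ∧ D.B x ∈ P0}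
        one_mem' := ⟨one_mem _, by rw [D.B_one]; exact one_mem _⟩
        mul_mem' := fun {a b} ha hb => ⟨mul_mem ha.1 hb.1, by rw [D.B_mul ha.1 hb.1]; exact mul_mem ha.2 hb.2⟩
        inv_mem' := fun {a} ha => ⟨inv_mem ha.1, by rw [D.B_inv ha.1]; exact inv_mem ha.2⟩ }
    have h1 : fixS F q D.SC ≤ H := fun x hx => ⟨fixS_mono D.SC_SW hx, by rw [← D.AB_eq hx]; exact hA x (fixS_mono D.SC_S3 hx)⟩
    intro x hx
    refine (fixS_insert_le hσ hc (d := D.t) (i := D.l) (j := D.j) (l := D.i) (S := D.SC) (H := H)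
      (by simp [SC, D.lt.symm, D.hit.symm, D.hjt.symm]) (by simp [SC]) (by simp [SC]) (by simp [SC]) D.lj D.li.symm D.hij
      h1 hs ⟨fixS_mono D.SJ_SW hs, Subgroup.subset_closure (Or.inr ⟨s, hs, rfl⟩)⟩ ej et (fixS_mono ?_ hx)).2
    intro m
    simp [SW, SC]
    tauto
  have hex : ∀ g ∈ fixS F q D.SA, ∃ p ∈ P0, p.2 = g := by
    intro g hg
    have h1 : fixS F q D.S3 ≤ P0.map (MonoidHom.snd G (Cfsg.SU n F q)) := fun x hx =>
      ⟨D.A x, hA x hx, by rw [D.A_def hx]; rfl⟩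
    have h2 : s ∈ P0.map (MonoidHom.snd G (Cfsg.SU n F q)) :=
      ⟨D.B s, Subgroup.subset_closure (Or.inr ⟨s, hs, rfl⟩), by rw [D.B_def (fixS_mono D.SJ_SW hs)]; rfl⟩
    obtain ⟨p, hp, e⟩ := fixS_insert_le hσ hc (d := D.t) (i := D.i) (j := D.j) (l := D.l) D.tS3 (by simp [S3, SI])
      (by simp [S3]) (by simp [S3, SI, D.hl]) D.hij D.li D.lj h1 hs h2 ej et hg
    exact ⟨p, hp, e⟩
  choose p hp hp2 using hex
  have uniq : ∀ g (hg : g ∈ fixS F q D.SA) p', p' ∈ P0 → p'.2 = g → p' = p g hg := fun g hg p' h1 h2 =>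
    eq_of_mul_inv_eq_one (hinj _ (mul_mem h1 (inv_mem (hp g hg))) (by rw [Prod.snd_mul, Prod.snd_inv, h2, hp2, mul_inv_cancel]))
  let Φ : fixS F q D.SA →* G := MonoidHom.mk' (fun x => (p x.1 x.2).1) fun x y => by
    rw [← Prod.fst_mul, uniq _ (x * y).2 (p x.1 x.2 * p y.1 y.2) (mul_mem (hp _ _) (hp _ _))
      (by rw [Prod.snd_mul, hp2, hp2]; rfl)]
  refine ⟨Φ, fun g h => ?_, fun g h => ?_⟩
  · show (p g _).1 = _
    rw [← uniq g _ (D.A g) (hA g h) (by rw [D.A_def h]), D.A_def h]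
  · show (p g _).1 = _
    rw [← uniq g _ (D.B g) (hB g h) (by rw [D.B_def h]), D.B_def h]

end Win4

end CfsgLib.Phan
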