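import Cfsg.Agent.Lib.KnownB.Phan.Stab

/-!
# Two rank one subgroups with commuting tori form a standard pair
-/

set_option autoImplicit false
set_option linter.unusedSectionVars false

open Matrix CfsgLib.Classical CfsgLib.SUPres

namespace CfsgLib.Phan

variable {F : Type*} [Field F] [Fintype F] {q : ℕ} {σ : F →+* F}
variable (hσ : ∀ x, σ x = x ^ q) (hc : IsConjugation σ)
include hσ hc

theorem exists_eigen (hF : Fintype.card F = q ^ 2) {M : Matrix (Fin 2) (Fin 2) F} (hM : M ^ (q + 1) = 1) :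
    ∃ ζ : F, ζ * σ ζ = 1 ∧ ∃ v, v ≠ 0 ∧ M *ᵥ v = ζ • v := by
  classical
  obtain ⟨g, hg⟩ := IsCyclic.exists_generator (α := (normHom σ).ker)
  have hord : orderOf ((g : Fˣ) : F) = q + 1 := by
    rw [orderOf_units, Subgroup.orderOf_coe, orderOf_eq_card_of_forall_mem_zpowers hg, (frob_cards hF hσ hc).2]
  have hprim : IsPrimitiveRoot ((g : Fˣ) : F) (q + 1) := hord ▸ IsPrimitiveRoot.orderOf _
  have hpoly := Polynomial.X_pow_sub_one_eq_prod (Nat.succ_pos q) hprim
  let δ : Polynomial F →* F :=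
    { toFun := fun p => (Polynomial.aeval M p).det
      map_one' := by simp
      map_mul' := fun a b => by simp [det_mul] }
  have h0 : δ (Polynomial.X ^ (q + 1) - 1) = 0 := by
    show (Polynomial.aeval M (Polynomial.X ^ (q + 1) - 1)).det = 0
    rw [map_sub, map_pow, Polynomial.aeval_X, map_one, hM, sub_self, det_zero]
  rw [show q + 1 = q.succ from rfl, hpoly, map_prod, Finset.prod_eq_zero_iff] at h0
  obtain ⟨ζ, hζ, hdet⟩ := h0
  rw [Polynomial.mem_nthRootsFinset (Nat.succ_pos q)] at hζ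
  change (Polynomial.aeval M (Polynomial.X - Polynomial.C ζ)).det = 0 at hdet
  rw [map_sub, Polynomial.aeval_X, Polynomial.aeval_C] at hdet
  obtain ⟨v, hv0, hv⟩ := Matrix.exists_mulVec_eq_zero_iff.2 hdet
  refine ⟨ζ, by rw [hσ, ← pow_succ']; exact hζ, v, hv0, ?_⟩
  rw [Matrix.sub_mulVec, sub_eq_zero, Matrix.algebraMap_eq_diagonal] at hv
  rw [hv]
  funext i
  simp [mulVec_diagonal]

theorem diagonalise (hF : Fintype.card F = q ^ 2) (hq : 1 < q) {y : Cfsg.SU 2 F q} (hy : orderOf y = q + 1) :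
    ∃ h : Cfsg.SU 2 F q, (h⁻¹ * y * h).1.1 0 1 = 0 := by
  classical
  have hM : y.1.1 ^ (q + 1) = 1 := by
    have h := pow_orderOf_eq_one y
    rw [hy] at h
    exact congrArg (fun g : Cfsg.SU 2 F q => g.1.1) h
  obtain ⟨ζ, hζ, v, hv0, hv⟩ := exists_eigen hσ hc hF hM
  obtain ⟨a1, a2⟩ := su2_row hσ y
  set a := y.1.1 0 0
  set b := y.1.1 0 1
  have e0 := congrFun hv 0
  have e1 := congrFun hv 1
  simp only [Matrix.mulVec, dotProduct, Fin.sum_univ_two, Pi.smul_apply, smul_eq_mul, a1, a2] at e0 e1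
  have hvv : stdHerm σ 2 v v ≠ 0 := by
    intro h
    simp [stdHerm_apply, Fin.sum_univ_two] at h
    have h00 : v 0 ≠ 0 := fun e => hv0 (by
      rw [e, mul_zero, zero_add, mul_eq_zero, map_eq_zero, or_self] at h
      funext i; fin_cases i
      exacts [e, h])
    have h11 : v 1 ≠ 0 := fun e => h00 (by
      rw [e, mul_zero, add_zero, mul_eq_zero, map_eq_zero, or_self] at h
      exact h)
    have e0' := congrArg σ e0
    simp only [map_add, map_mul] at e0'
    -- the eigenvalue is fixed by the conjugation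
    have hfix : σ ζ = ζ := by
      refine mul_left_cancel₀ (mul_ne_zero ((map_ne_zero σ).2 h00) h11) ?_
      linear_combination -(v 1) * e0' + σ (v 0) * e1 + σ b * h
    have hζ2 : ζ * ζ = 1 := by rw [hfix] at hζ; exact hζ
    -- hence the matrix is a scalar
    have hdet := y.1.2
    rw [det_fin_two, a1, a2] at hdet
    have htr : a + σ a = 2 * ζ := by
      have h' : (ζ * ζ - (a + σ a) * ζ + 1) * v 0 = 0 := by
        linear_combination (σ a - ζ) * e0 + (-b) * e1 - (v 0) * hdet
      have := (mul_eq_zero.1 h').resolve_right h00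
      linear_combination (-ζ) * this + (ζ - (a + σ a)) * hζ2
    set N : Matrix (Fin 2) (Fin 2) F := ζ • y.1.1 - 1
    have hNN : N * N = 0 := by
      ext i j
      fin_cases i <;> fin_cases j <;> simp [N, Matrix.mul_apply, Fin.sum_univ_two, a1, a2] <;>
        first
          | linear_combination (ζ * ζ * a) * htr - (ζ * ζ) * hdet + (2 * a * ζ - 1) * hζ2
          | linear_combination (ζ * ζ * b) * htr + (2 * b * ζ) * hζ2
          | linear_combination -(ζ * ζ * σ b) * htr - (2 * σ b * ζ) * hζ2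
          | linear_combination (ζ * ζ * σ a) * htr - (ζ * ζ) * hdet + (2 * σ a * ζ - 1) * hζ2
    have hpow : ∀ k : ℕ, (1 + N) ^ k = 1 + (k : F) • N := fun k => by
      induction k with
      | zero => simp
      | succ k ih =>
        rw [pow_succ, ih, Matrix.add_mul, Matrix.one_mul, Matrix.smul_mul, Matrix.mul_add, Matrix.mul_one, hNN,
          add_zero, Nat.cast_succ, add_smul, one_smul]
        abel
    have hq1 : ((q + 1 : ℕ) : F) = 1 := by
      have h0 : ((q ^ 2 : ℕ) : F) = 0 := by rw [← hF]; exact FiniteField.cast_card_eq_zero F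
      push_cast at h0 ⊢
      rw [pow_eq_zero_iff two_ne_zero |>.1 h0, zero_add]
    have hζq : ζ ^ (q + 1) = 1 := by rw [pow_succ', ← hσ]; exact hζ
    have h1 : (1 + N) ^ (q + 1) = 1 := by
      simp only [N, add_sub_cancel]
      rw [smul_pow, hM, hζq, one_smul]
    rw [hpow, hq1, one_smul, add_eq_left] at h1
    have hy2 : y.1.1 = ζ • 1 := by
      have : ζ • y.1.1 = 1 := sub_eq_zero.1 h1
      rw [← this, smul_smul, hζ2, one_smul]
    have hord : y ^ 2 = 1 := Subtype.ext (Subtype.ext (by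
      show y.1.1 ^ 2 = 1
      rw [hy2, smul_pow, one_pow, sq, hζ2, one_smul]))
    have := orderOf_le_of_pow_eq_one (by norm_num : 0 < 2) hord
    omega
  obtain ⟨c, hc'⟩ := hc.exists_norm_eq (herm_self_fixed hc v)
  have hc0 : c ≠ 0 := fun e => hvv (by rw [← hc', e, zero_mul])
  obtain ⟨h, -, eh⟩ := fixS_to_ev hσ hc (i := (0 : Fin 2)) (l := 1) (S := Finset.univ) (v := v) (by simp) (by simp)
    (by decide) (fun i hi => absurd (Finset.mem_univ i) hi) hc0 hc'.symm
  refine ⟨h, ?_⟩
  set z := h⁻¹ * y * h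
  have hz : act z (c • ev 0) = ζ • (c • ev 0) := by
    show act (h⁻¹ * y * h) _ = _
    rw [act_mul, act_mul, eh, show act y v = ζ • v from hv, act_smul, act_inv_of eh]
  rw [act_smul, smul_comm ζ c] at hz
  have hz' := smul_right_injective _ hc0 hz
  have h10 : z.1.1 1 0 = 0 := by
    have := congrFun hz' 1
    rw [act_col hσ] at this
    simpa [ev] using this
  obtain ⟨-, b2⟩ := su2_row hσ z
  rw [h10, eq_comm, neg_eq_zero, map_eq_zero] at b2
  exact b2

/-- A second subgroup with a torus commuting with a diagonal one. -/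
theorem pair_core (hF : Fintype.card F = q ^ 2) (hq : 3 < q) {y : Cfsg.SU 2 F q} (hy : orderOf y = q + 1)
    (hyd : y.1.1 0 1 = 0) {φ : Cfsg.SU 2 F q →* Cfsg.SU 3 F q} (hφ : Function.Injective φ) {z : Cfsg.SU 2 F q}
    (hz : z ≠ 1) (hcm : Commute (upp hσ y) (φ z)) (hne : φ.range ≠ (upp (q := q) hσ).range) :
    ∃ h : Cfsg.SU 3 F q, (upp (q := q) hσ).range.map (MulAut.conj h).toMonoidHom = (upp (q := q) hσ).range ∧
      φ.range.map (MulAut.conj h).toMonoidHom = (low (q := q) hσ).range := by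
  classical
  obtain ⟨g, hg⟩ := stab_classify hσ hc hF hq φ hφ
  set w : Fin 3 → F := act g⁻¹ (ev 2) with hw
  have hrange : φ.range = stabV F q w := by
    ext x
    rw [hw, mem_stab_conj, stab_ev_two, ← upp_range hσ, ← hg, inv_inv]
    constructor
    · exact fun hx => ⟨x, hx, rfl⟩
    · rintro ⟨x', hx', e⟩
      have : x' = x := (MulAut.conj g).injective e
      exact this ▸ hx'
  obtain ⟨r1, r2⟩ := su2_row hσ y
  rw [hyd, map_zero, neg_zero] at r2
  set lam := y.1.1 0 0
  have hlam : lam * σ lam = 1 := by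
    have h := y.1.2
    rw [det_fin_two, r1, r2, hyd] at h
    linear_combination h
  have key : ∀ (k : ℕ), 0 < k → k ≤ 2 → y ^ k ≠ 1 := fun k h0 hk e => by
    have := orderOf_le_of_pow_eq_one h0 e
    omega
  have hl : lam ≠ σ lam := fun e => key 2 two_pos le_rfl (Subtype.ext (Subtype.ext (by
    show y.1.1 ^ 2 = 1
    rw [sq]
    ext i j
    have h2 : lam * lam = 1 := by rw [← e] at hlam; exact hlam
    fin_cases i <;> fin_cases j <;> simp [Matrix.mul_apply, Fin.sum_univ_two, r1, r2, hyd, ← e, h2] <;>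
      first | exact h2 | rfl)))
  have hl1 : lam ≠ 1 := fun e => hl (by rw [e, map_one])
  have hl2 : σ lam ≠ 1 := fun e => hl1 (σ.injective (e.trans (map_one σ).symm))
  set m := (φ z).1.1 with hm
  have hcm' : (upp hσ y).1.1 * m = m * (upp hσ y).1.1 := congrArg (fun x : Cfsg.SU 3 F q => x.1.1) hcm.eq
  rw [upp_entries] at hcm'
  have hoff : ∀ a b : Fin 3, a ≠ b → m a b = 0 := by
    intro a b hab
    have e := congrFun (congrFun hcm' a) b
    have d1 : lam - σ lam ≠ 0 := sub_ne_zero.2 hl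
    have d2 : lam - 1 ≠ 0 := sub_ne_zero.2 hl1
    have d3 : σ lam - 1 ≠ 0 := sub_ne_zero.2 hl2
    fin_cases a <;> fin_cases b <;> simp [Matrix.mul_apply, Fin.sum_univ_three, r1, r2, hyd] at e hab ⊢
    · exact (mul_eq_zero.1 (show (lam - σ lam) * m 0 1 = 0 by linear_combination e)).resolve_left d1
    · exact (mul_eq_zero.1 (show (lam - 1) * m 0 2 = 0 by linear_combination e)).resolve_left d2
    · exact (mul_eq_zero.1 (show (lam - σ lam) * m 1 0 = 0 by linear_combination -e)).resolve_left d1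
    · exact (mul_eq_zero.1 (show (σ lam - 1) * m 1 2 = 0 by linear_combination e)).resolve_left d3
    · exact (mul_eq_zero.1 (show (lam - 1) * m 2 0 = 0 by linear_combination -e)).resolve_left d2
    · exact (mul_eq_zero.1 (show (σ lam - 1) * m 2 1 = 0 by linear_combination -e)).resolve_left d3
  have hmv : ∀ i, act (φ z) w i = m i i * w i := fun i => by
    show ∑ j, m i j * w j = _
    exact Finset.sum_eq_single i (fun j _ hj => by rw [hoff i j (Ne.symm hj), zero_mul]) (by simp)
  have hfw : act (φ z) w = w := by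
    have : φ z ∈ stabV F q w := hrange ▸ ⟨z, rfl⟩
    exact this
  have hone : ∀ i, w i ≠ 0 → m i i = 1 := fun i hi => mul_right_cancel₀ hi (by rw [← hmv, hfw, one_mul])
  have hw0 : w ≠ 0 := fun e => by
    have h := su_form hσ g⁻¹ (ev 2) (ev 2)
    rw [← hw, e, herm_ev_self] at h
    simp at h
  obtain ⟨k, hk⟩ : ∃ k, w k ≠ 0 := Function.ne_iff.1 hw0
  have honly : ∀ i, i ≠ k → w i = 0 := by
    intro i hik
    by_contra hi
    have hd := (φ z).1.2
    rw [← hm, det_fin_three, hoff 0 1 (by decide), hoff 0 2 (by decide), hoff 1 0 (by decide), hoff 1 2 (by decide),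
      hoff 2 0 (by decide), hoff 2 1 (by decide)] at hd
    simp at hd
    have hi1 := hone i hi
    have hk1 := hone k hk
    have hall : ∀ j, m j j = 1 := fun j => by
      fin_cases i <;> fin_cases k <;> fin_cases j <;> simp at hik hi1 hk1 ⊢ <;>
        first | assumption | (simp [hi1, hk1] at hd; exact hd)
    refine hz (hφ ((su_ext fun j => ?_).trans (map_one φ).symm))
    funext x
    rw [act_col hσ, act_one, ← hm]
    by_cases hx : x = j
    · subst hx; rw [hall]; simp [ev]
    · rw [hoff x j hx]; simp [ev, Pi.single_eq_of_ne (M := fun _ => F) hx (1 : F)]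
  have hwk : w = w k • ev k := by
    funext i
    by_cases hi : i = k
    · subst hi; simp [ev]
    · rw [honly i hi]; simp [ev, Pi.single_eq_of_ne (M := fun _ => F) hi (1 : F)]
  have hst : φ.range = stabV F q (ev k : Fin 3 → F) := by rw [hrange, hwk, stab_smul hk]
  fin_cases k
  · have hid : (MulAut.conj (1 : Cfsg.SU 3 F q)).toMonoidHom = MonoidHom.id _ := MonoidHom.ext fun x => by simp
    refine ⟨1, by rw [hid, Subgroup.map_id], ?_⟩
    rw [hid, Subgroup.map_id, show φ.range = stabV F q (ev 0 : Fin 3 → F) from hst, stab_ev_zero, low_range]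
  · obtain ⟨h, hh, e1, e0⟩ := exists_exchange hσ hc (show (1 : Fin 3) ≠ 0 by decide)
    have hh' : h ∈ fixS F q ({0, 1} : Finset (Fin 3)) := fixS_mono (subset_of_eq (Finset.pair_comm _ _)) hh
    refine ⟨h, ?_, ?_⟩
    · rw [upp_range]
      ext x
      constructor
      · rintro ⟨x', hx', rfl⟩
        exact mul_mem (mul_mem hh' hx') (inv_mem hh')
      · exact fun hx => ⟨h⁻¹ * x * h, mul_mem (mul_mem (inv_mem hh') hx) hh', by
          show h * (h⁻¹ * x * h) * h⁻¹ = x
          group⟩
    · rw [show φ.range = stabV F q (ev 1 : Fin 3 → F) from hst, low_range, ← stab_ev_zero, ← e1]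
      ext x
      rw [mem_stab_conj]
      constructor
      · rintro ⟨x', hx', rfl⟩
        show h⁻¹ * (h * x' * h⁻¹) * h ∈ _
        simpa [mul_assoc] using hx'
      · exact fun hx => ⟨h⁻¹ * x * h, hx, by
          show h * (h⁻¹ * x * h) * h⁻¹ = x
          group⟩
  · exact absurd (by rw [show φ.range = stabV F q (ev 2 : Fin 3 → F) from hst, stab_ev_two, upp_range]) hne

/-- Two subgroups isomorphic to the two-dimensional group, with commuting tori, generating the group. -/
theorem pair_standard (hF : Fintype.card F = q ^ 2) (hq : 3 < q) {φ φ' : Cfsg.SU 2 F q →* Cfsg.SU 3 F q}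
    (hφ : Function.Injective φ) (hφ' : Function.Injective φ') {y z : Cfsg.SU 2 F q} (hy : orderOf y = q + 1)
    (hz : z ≠ 1) (hcm : Commute (φ y) (φ' z)) (hgen : φ.range ⊔ φ'.range = ⊤) :
    ∃ h : Cfsg.SU 3 F q, φ.range.map (MulAut.conj h).toMonoidHom = (upp (q := q) hσ).range ∧
      φ'.range.map (MulAut.conj h).toMonoidHom = (low (q := q) hσ).range := by
  classical
  obtain ⟨g, hg⟩ := stab_classify hσ hc hF hq φ hφ
  obtain ⟨y1, hy1⟩ : ∃ y1, upp hσ y1 = g * φ y * g⁻¹ := by
    have : g * φ y * g⁻¹ ∈ φ.range.map (MulAut.conj g).toMonoidHom := ⟨φ y, ⟨y, rfl⟩, rfl⟩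
    rw [hg] at this
    exact this
  have ho1 : orderOf y1 = q + 1 := by
    rw [← orderOf_injective (upp hσ) (emb_injective hσ f01) y1, hy1,
      show g * φ y * g⁻¹ = MulAut.conj g (φ y) from rfl, MulEquiv.orderOf_eq, orderOf_injective φ hφ, hy]
  obtain ⟨h2, hd⟩ := diagonalise hσ hc hF (by omega) ho1
  set u := (upp hσ h2)⁻¹ * g with hu
  let c : Cfsg.SU 3 F q →* Cfsg.SU 3 F q := (MulAut.conj u).toMonoidHom
  have hup : upp hσ (h2⁻¹ * y1 * h2) = c (φ y) := by
    show _ = u * φ y * u⁻¹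
    rw [map_mul, map_mul, map_inv, hy1, hu]
    group
  have hrange : φ.range.map c = (upp (q := q) hσ).range := by
    show φ.range.map (MulAut.conj u).toMonoidHom = _
    rw [hu, map_mul, show (MulAut.conj (upp hσ h2)⁻¹ * MulAut.conj g).toMonoidHom =
      (MulAut.conj (upp hσ h2)⁻¹).toMonoidHom.comp (MulAut.conj g).toMonoidHom from rfl, ← Subgroup.map_map, hg]
    ext x
    constructor
    · rintro ⟨x', ⟨a, rfl⟩, rfl⟩
      exact ⟨h2⁻¹ * a * h2, by show _ = (upp hσ h2)⁻¹ * upp hσ a * (upp hσ h2)⁻¹⁻¹; simp⟩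
    · rintro ⟨a, rfl⟩
      exact ⟨upp hσ (h2 * a * h2⁻¹), ⟨_, rfl⟩, by
        show (upp hσ h2)⁻¹ * upp hσ (h2 * a * h2⁻¹) * (upp hσ h2)⁻¹⁻¹ = _
        simp [mul_assoc]⟩
  have hne : (c.comp φ').range ≠ (upp (q := q) hσ).range := fun e => by
    have htop : (upp (q := q) hσ).range = ⊤ := by
      have := congrArg (Subgroup.map c) hgen
      rw [Subgroup.map_sup, hrange, MonoidHom.map_range, e, sup_idem,
        Subgroup.map_top_of_surjective c (MulAut.conj u).surjective] at this
      exact this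
    obtain ⟨e, he, e1, -⟩ := exists_exchange hσ hc (show (2 : Fin 3) ≠ 1 by decide)
    have hm : e ∈ fixS F q ({0, 1} : Finset (Fin 3)) := by rw [← upp_range hσ, htop]; exact Subgroup.mem_top e
    have := congrFun ((hm 2 (by simp)).symm.trans e1) 2
    simp [ev] at this
  obtain ⟨h, h1, h2'⟩ := pair_core hσ hc hF hq (y := h2⁻¹ * y1 * h2)
    (by rw [show h2⁻¹ * y1 * h2 = MulAut.conj h2⁻¹ y1 by simp, MulEquiv.orderOf_eq, ho1]) hd (φ := c.comp φ')
    ((MulAut.conj u).injective.comp hφ') hz (by rw [hup]; exact hcm.map c) hne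
  refine ⟨h * u, ?_, ?_⟩
  · rw [map_mul, show (MulAut.conj h * MulAut.conj u).toMonoidHom = (MulAut.conj h).toMonoidHom.comp c from rfl,
      ← Subgroup.map_map, hrange, h1]
  · rw [map_mul, show (MulAut.conj h * MulAut.conj u).toMonoidHom = (MulAut.conj h).toMonoidHom.comp c from rfl,
      ← Subgroup.map_map, MonoidHom.map_range, h2']

end CfsgLib.Phan
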